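import Mathlib
import Cfsg.Agent.Helper1.SL3P.Defs

/-!
# `SL_n(q)`, `n ≥ 4`, from a presentation of `A_n` (block (C4) of S2290): definitions

`a : SL₂(K) →* D` (the root `e₀ - e₁`), `ρ : A_{m+4} →* D` (the even permutation matrices).
The root subgroups are `XN a ρ i j t = ρ π * x(t) * (ρ π)⁻¹` for an even `π` with `π 0 = i`, `π 1 = j`.
Relations: `CrossB` (and `CrossE` for `q = 4`) for `c = ρ (0 1 2)`; the stabiliser of `0, 1` in `A_n`
(two generators `s1, s2`) centralises `a`; `σ = (0 1)(2 3)` acts on `a` as the flip `g ↦ J g J`;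
`a` commutes with its conjugate under `π₀ = (0 2)(1 3)`.
-/

set_option autoImplicit false

namespace Cfsg.Agent.Helper1.SLNP

open Matrix Cfsg.Agent.Helper96.StemSLTwo Cfsg.Agent.Helper96.StPres Cfsg.Agent.Helper9.Sp4P
  Cfsg.Agent.Helper1.SL3P

universe u v

/-- the alternating group of degree `m + 4` -/
abbrev Alt (m : ℕ) := ↥(alternatingGroup (Fin (m + 4)))

/-- the point `0` -/
def p0 (m : ℕ) : Fin (m + 4) := ⟨0, by omega⟩
/-- the point `1` -/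
def p1 (m : ℕ) : Fin (m + 4) := ⟨1, by omega⟩
/-- the point `2` -/
def p2 (m : ℕ) : Fin (m + 4) := ⟨2, by omega⟩
/-- the point `3` -/
def p3 (m : ℕ) : Fin (m + 4) := ⟨3, by omega⟩

/-- the first three points -/
def emb (m : ℕ) (i : Fin 3) : Fin (m + 4) := ⟨i.val, by omega⟩

theorem swap_mul_swap_mem {m : ℕ} {i j k l : Fin (m + 4)} (hij : i ≠ j) (hkl : k ≠ l) :
    Equiv.swap i j * Equiv.swap k l ∈ alternatingGroup (Fin (m + 4)) := by
  rw [Equiv.Perm.mem_alternatingGroup, map_mul, Equiv.Perm.sign_swap hij, Equiv.Perm.sign_swap hkl]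
  rfl

theorem p0_ne_p1 (m : ℕ) : p0 m ≠ p1 m := by simp [p0, p1, Fin.ext_iff]
theorem p1_ne_p2 (m : ℕ) : p1 m ≠ p2 m := by simp [p1, p2, Fin.ext_iff]
theorem p2_ne_p3 (m : ℕ) : p2 m ≠ p3 m := by simp [p2, p3, Fin.ext_iff]
theorem p0_ne_p2 (m : ℕ) : p0 m ≠ p2 m := by simp [p0, p2, Fin.ext_iff]
theorem p1_ne_p3 (m : ℕ) : p1 m ≠ p3 m := by simp [p1, p3, Fin.ext_iff]
theorem p0_ne_p3 (m : ℕ) : p0 m ≠ p3 m := by simp [p0, p3, Fin.ext_iff]

/-- the 3-cycle `0 ↦ 1 ↦ 2 ↦ 0` -/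
def c012 (m : ℕ) : Alt m :=
  ⟨Equiv.swap (p0 m) (p1 m) * Equiv.swap (p1 m) (p2 m), swap_mul_swap_mem (p0_ne_p1 m) (p1_ne_p2 m)⟩

/-- `σ = (0 1)(2 3)` -/
def sg (m : ℕ) : Alt m :=
  ⟨Equiv.swap (p0 m) (p1 m) * Equiv.swap (p2 m) (p3 m), swap_mul_swap_mem (p0_ne_p1 m) (p2_ne_p3 m)⟩

/-- `π₀ = (0 2)(1 3)` -/
def pi0 (m : ℕ) : Alt m :=
  ⟨Equiv.swap (p0 m) (p2 m) * Equiv.swap (p1 m) (p3 m), swap_mul_swap_mem (p0_ne_p2 m) (p1_ne_p3 m)⟩

variable {K : Type u} [Field K] {D : Type v} [Group D]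

/-- the matrix of the flip `g ↦ J g J`, `J = !![0, 1; 1, 0]` -/
def flipMat (g : Matrix (Fin 2) (Fin 2) K) : Matrix (Fin 2) (Fin 2) K :=
  !![g 1 1, g 1 0; g 0 1, g 0 0]

theorem flipMat_mul (g g' : Matrix (Fin 2) (Fin 2) K) :
    flipMat (g * g') = flipMat g * flipMat g' := by
  ext i j
  fin_cases i <;> fin_cases j <;>
    simp [flipMat, Matrix.mul_apply, Fin.sum_univ_two, add_comm]

theorem flipMat_one : flipMat (1 : Matrix (Fin 2) (Fin 2) K) = 1 := by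
  ext i j
  fin_cases i <;> fin_cases j <;> simp [flipMat]

theorem det_flipMat (g : Matrix (Fin 2) (Fin 2) K) : (flipMat g).det = g.det := by
  rw [flipMat, Matrix.det_fin_two_of, Matrix.det_fin_two]
  ring

/-- the flip automorphism `g ↦ J g J` of `SL₂(K)` -/
def flip : SL2 K →* SL2 K where
  toFun g := ⟨flipMat g.1, by rw [det_flipMat]; exact g.2⟩
  map_one' := Subtype.ext flipMat_one
  map_mul' g g' := Subtype.ext (flipMat_mul g.1 g'.1)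

theorem coe_flip (g : SL2 K) :
    ((flip g : SL2 K) : Matrix (Fin 2) (Fin 2) K) = !![g.1 1 1, g.1 1 0; g.1 0 1, g.1 0 0] := rfl

/-- an even permutation with `π 0 = i`, `π 1 = j` -/
noncomputable def pick (m : ℕ) (i j : Fin (m + 4)) : Alt m := by
  classical
  exact if h : ∃ π : Alt m, π.1 (p0 m) = i ∧ π.1 (p1 m) = j then Classical.choose h else 1

/-- the root subgroups -/
noncomputable def XN {m : ℕ} (a : SL2 K →* D) (ρ : Alt m →* D) (i j : Fin (m + 4)) (t : K) : D := by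
  classical
  exact if i = j then 1 else ρ (pick m i j) * xe a t * (ρ (pick m i j))⁻¹

/-- `A_{m+4}` is transitive on ordered pairs -/
def HT2 (m : ℕ) : Prop :=
  ∀ i j : Fin (m + 4), i ≠ j → ∃ π : Alt m, π.1 (p0 m) = i ∧ π.1 (p1 m) = j

/-- the root subgroup `X_ij` is the conjugate of `x` under any even `π` with `π 0 = i`, `π 1 = j` -/
def HXeq {m : ℕ} (a : SL2 K →* D) (ρ : Alt m →* D) : Prop :=
  ∀ i j : Fin (m + 4), i ≠ j → ∀ π : Alt m, π.1 (p0 m) = i → π.1 (p1 m) = j → ∀ t : K,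
    ρ π * xe a t * (ρ π)⁻¹ = XN a ρ i j t

/-- the root subgroup `X_ji` is the conjugate of `y` under any even `π` with `π 0 = i`, `π 1 = j` -/
def HXYeq {m : ℕ} (a : SL2 K →* D) (ρ : Alt m →* D) : Prop :=
  ∀ i j : Fin (m + 4), i ≠ j → ∀ π : Alt m, π.1 (p0 m) = i → π.1 (p1 m) = j → ∀ t : K,
    ρ π * ye a t * (ρ π)⁻¹ = XN a ρ j i t

/-- the even permutations permute the root subgroups -/
def HXconj {m : ℕ} (a : SL2 K →* D) (ρ : Alt m →* D) : Prop :=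
  ∀ (π : Alt m) (i j : Fin (m + 4)) (t : K),
    ρ π * XN a ρ i j t * (ρ π)⁻¹ = XN a ρ (π.1 i) (π.1 j) t

/-- on the first three points the root subgroups are those of `SL₃` -/
def HX3N {m : ℕ} (a : SL2 K →* D) (ρ : Alt m →* D) : Prop :=
  ∀ (i j : Fin 3) (t : K), XN a ρ (emb m i) (emb m j) t = X3 a (ρ (c012 m)) i j t

/-- the gluing relations on the generators; `s1, s2` generate the stabiliser of `0, 1` -/
structure GlueGen {m : ℕ} (a : SL2 K →* D) (ρ : Alt m →* D) (z : Kˣ) (s1 s2 : Alt m) : Prop where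
  s1u : Commute (ρ s1) (xe a 1)
  s1h : Commute (ρ s1) (he a z)
  s1w : Commute (ρ s1) (we a)
  s2u : Commute (ρ s2) (xe a 1)
  s2h : Commute (ρ s2) (he a z)
  s2w : Commute (ρ s2) (we a)
  fu : ρ (sg m) * xe a 1 * (ρ (sg m))⁻¹ = ye a 1
  fh : ρ (sg m) * he a z * (ρ (sg m))⁻¹ = (he a z)⁻¹
  fw : ρ (sg m) * we a * (ρ (sg m))⁻¹ = (we a)⁻¹
  duu : Commute (xe a 1) (ρ (pi0 m) * xe a 1 * (ρ (pi0 m))⁻¹)
  duh : Commute (xe a 1) (ρ (pi0 m) * he a z * (ρ (pi0 m))⁻¹)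
  duw : Commute (xe a 1) (ρ (pi0 m) * we a * (ρ (pi0 m))⁻¹)
  dhu : Commute (he a z) (ρ (pi0 m) * xe a 1 * (ρ (pi0 m))⁻¹)
  dhh : Commute (he a z) (ρ (pi0 m) * he a z * (ρ (pi0 m))⁻¹)
  dhw : Commute (he a z) (ρ (pi0 m) * we a * (ρ (pi0 m))⁻¹)
  dwu : Commute (we a) (ρ (pi0 m) * xe a 1 * (ρ (pi0 m))⁻¹)
  dwh : Commute (we a) (ρ (pi0 m) * he a z * (ρ (pi0 m))⁻¹)
  dww : Commute (we a) (ρ (pi0 m) * we a * (ρ (pi0 m))⁻¹)

/-- the gluing relations for all elements -/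
structure Glue {m : ℕ} (a : SL2 K →* D) (ρ : Alt m →* D) : Prop where
  st : ∀ π : Alt m, π.1 (p0 m) = p0 m → π.1 (p1 m) = p1 m → ∀ g : SL2 K, Commute (ρ π) (a g)
  fl : ∀ g : SL2 K, ρ (sg m) * a g * (ρ (sg m))⁻¹ = a (flip g)
  dj : ∀ g g' : SL2 K, Commute (a g) (ρ (pi0 m) * a g' * (ρ (pi0 m))⁻¹)

/-- the eighteen gluing relator words in `u = x(1)`, `h = h(z)`, `w = w(1)` and `s1, s2, σ, π₀` -/
def wordsG {G : Type*} [Group G] (u h w s1 s2 s p : G) : List G :=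
  [s1 * u * s1⁻¹ * u⁻¹, s1 * h * s1⁻¹ * h⁻¹, s1 * w * s1⁻¹ * w⁻¹,
   s2 * u * s2⁻¹ * u⁻¹, s2 * h * s2⁻¹ * h⁻¹, s2 * w * s2⁻¹ * w⁻¹,
   s * u * s⁻¹ * (w * u⁻¹ * w⁻¹)⁻¹, s * h * s⁻¹ * h, s * w * s⁻¹ * w,
   u * (p * u * p⁻¹) * u⁻¹ * (p * u * p⁻¹)⁻¹, u * (p * h * p⁻¹) * u⁻¹ * (p * h * p⁻¹)⁻¹,
   u * (p * w * p⁻¹) * u⁻¹ * (p * w * p⁻¹)⁻¹,
   h * (p * u * p⁻¹) * h⁻¹ * (p * u * p⁻¹)⁻¹, h * (p * h * p⁻¹) * h⁻¹ * (p * h * p⁻¹)⁻¹,
   h * (p * w * p⁻¹) * h⁻¹ * (p * w * p⁻¹)⁻¹,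
   w * (p * u * p⁻¹) * w⁻¹ * (p * u * p⁻¹)⁻¹, w * (p * h * p⁻¹) * w⁻¹ * (p * h * p⁻¹)⁻¹,
   w * (p * w * p⁻¹) * w⁻¹ * (p * w * p⁻¹)⁻¹]

theorem length_wordsG {G : Type*} [Group G] (u h w s1 s2 s p : G) :
    (wordsG u h w s1 s2 s p).length = 18 := rfl

theorem map_wordsG {G H : Type*} [Group G] [Group H] (φ : G →* H) (u h w s1 s2 s p : G) :
    (wordsG u h w s1 s2 s p).map φ = wordsG (φ u) (φ h) (φ w) (φ s1) (φ s2) (φ s) (φ p) := by
  simp only [wordsG, List.map_cons, List.map_nil, map_mul, map_inv]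

section model

variable (F : Type u) [Field F]

/-- `SL_{m+4}(F)` -/
abbrev SLN (m : ℕ) (F : Type u) [Field F] := Matrix.SpecialLinearGroup (Fin (m + 4)) F

/-- the index equivalence `Fin 3 ⊕ Fin (m + 1) ≃ Fin (m + 4)` -/
def idx3 (m : ℕ) : Fin 3 ⊕ Fin (m + 1) ≃ Fin (m + 4) :=
  finSumFinEquiv.trans (finCongr (by omega))

/-- the matrix of the embedding of `SL₃(F)` in the upper left corner -/
def i3Mat (m : ℕ) (g : Matrix (Fin 3) (Fin 3) F) : Matrix (Fin (m + 4)) (Fin (m + 4)) F :=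
  Matrix.reindex (idx3 m) (idx3 m) (Matrix.fromBlocks g 0 0 1)

theorem i3Mat_mul (m : ℕ) (g g' : Matrix (Fin 3) (Fin 3) F) :
    i3Mat F m (g * g') = i3Mat F m g * i3Mat F m g' := by
  unfold i3Mat
  rw [Matrix.reindex_apply, Matrix.reindex_apply, Matrix.reindex_apply,
    Matrix.submatrix_mul_equiv, Matrix.fromBlocks_multiply]
  simp

theorem i3Mat_one (m : ℕ) : i3Mat F m (1 : Matrix (Fin 3) (Fin 3) F) = 1 := by
  unfold i3Mat
  rw [Matrix.fromBlocks_one, Matrix.reindex_apply, Matrix.submatrix_one_equiv]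

theorem det_i3Mat (m : ℕ) (g : Matrix (Fin 3) (Fin 3) F) : (i3Mat F m g).det = g.det := by
  unfold i3Mat
  rw [Matrix.det_reindex_self, Matrix.det_fromBlocks_zero₂₁, Matrix.det_one, mul_one]

/-- the embedding of `SL₃(F)` in the upper left corner of `SL_{m+4}(F)` -/
def iota3 (m : ℕ) : SL3 F →* SLN m F where
  toFun g := ⟨i3Mat F m g.1, by rw [det_i3Mat]; exact g.2⟩
  map_one' := Subtype.ext (i3Mat_one F m)
  map_mul' g g' := Subtype.ext (i3Mat_mul F m g.1 g'.1)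

theorem coe_iota3 (m : ℕ) (g : SL3 F) :
    ((iota3 F m g : SLN m F) : Matrix (Fin (m + 4)) (Fin (m + 4)) F) = i3Mat F m g.1 := rfl

/-- the embedding of `SL₂(F)` in the upper left corner of `SL_{m+4}(F)` -/
def eN (m : ℕ) : SL2 F →* SLN m F := (iota3 F m).comp (eA F)

/-- the matrix of `eN` -/
def eNMat (m : ℕ) (g : Matrix (Fin 2) (Fin 2) F) : Matrix (Fin (m + 4)) (Fin (m + 4)) F :=
  Matrix.of fun i j =>
    if i = p0 m ∧ j = p0 m then g 0 0 else if i = p0 m ∧ j = p1 m then g 0 1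
    else if i = p1 m ∧ j = p0 m then g 1 0 else if i = p1 m ∧ j = p1 m then g 1 1
    else if i = j then 1 else 0

/-- the even permutation matrices: `e_j ↦ e_{π j}` -/
def rhoM (m : ℕ) : Alt m →* SLN m F where
  toFun π := ⟨Matrix.permMatrixHom (R := F) π.1, by
    rw [Matrix.permMatrixHom_apply, Matrix.det_permutation, map_inv,
      Equiv.Perm.mem_alternatingGroup.1 π.2]
    simp⟩
  map_one' := Subtype.ext (map_one _)
  map_mul' π π' := Subtype.ext (map_mul (Matrix.permMatrixHom (R := F)) π.1 π'.1)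

theorem coe_rhoM (m : ℕ) (π : Alt m) (i j : Fin (m + 4)) :
    ((rhoM F m π : SLN m F) : Matrix (Fin (m + 4)) (Fin (m + 4)) F) i j =
      if i = π.1 j then 1 else 0 := by
  change (Equiv.toPEquiv (π.1)⁻¹).toMatrix i j = _
  rw [PEquiv.toMatrix_apply]
  simp only [Equiv.toPEquiv_apply, Option.mem_def, Option.some.injEq]
  congr 1
  rw [eq_iff_iff, Equiv.Perm.inv_eq_iff_eq]

end model

end Cfsg.Agent.Helper1.SLNP
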