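import Mathlib
import Cfsg.Agent.Helper1.SLNP.Defs
import Cfsg.Agent.Helper9.Sp4P.P_SL2F
import Cfsg.Agent.Helper9.Sp4P.P_CW
import Cfsg.Agent.Helper1.SL3P.P_GEN

/-!
# S2290 block (C4) piece (ALT2) -- see `tools/helper1_slnp/README.md` and board WANTED of helper1.
-/

set_option autoImplicit false

namespace Cfsg.Agent.Helper1.SLNP

open Matrix Cfsg.Agent.Helper96.StemSLTwo Cfsg.Agent.Helper96.StPres Cfsg.Agent.Helper9.Sp4P
  Cfsg.Agent.Helper1.SL3P Cfsg.Agent.Helper96.StN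

universe u v

variable {K : Type u} [Field K] {D : Type v} [Group D] {m : ℕ}

/-- the embedding of the alternating group of the complement of `{0, 1}` -/
def ALT2_hom (m : ℕ) :
    alternatingGroup {x : Fin (m + 4) // x ≠ p0 m ∧ x ≠ p1 m} →* Alt m :=
  ((Equiv.Perm.ofSubtype :
      Equiv.Perm {x : Fin (m + 4) // x ≠ p0 m ∧ x ≠ p1 m} →* Equiv.Perm (Fin (m + 4))).comp
    (alternatingGroup {x : Fin (m + 4) // x ≠ p0 m ∧ x ≠ p1 m}).subtype).codRestrict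
    (alternatingGroup (Fin (m + 4))) (fun g => by
      rw [Equiv.Perm.mem_alternatingGroup]
      show Equiv.Perm.sign (Equiv.Perm.ofSubtype g.1) = 1
      rw [Equiv.Perm.sign_ofSubtype]
      exact g.2)

theorem ALT2_hom_coe (m : ℕ) (g : alternatingGroup {x : Fin (m + 4) // x ≠ p0 m ∧ x ≠ p1 m}) :
    (ALT2_hom m g).1 = Equiv.Perm.ofSubtype g.1 := rfl

theorem exists_stab_gens (m : ℕ)
    (h2 : ∀ (α : Type) [Fintype α] [DecidableEq α],
      ∃ g1 g2 : alternatingGroup α, Subgroup.closure {g1, g2} = ⊤) :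
    ∃ s1 s2 : Alt m, s1.1 (p0 m) = p0 m ∧ s1.1 (p1 m) = p1 m ∧ s2.1 (p0 m) = p0 m ∧
      s2.1 (p1 m) = p1 m ∧
      ∀ π : Alt m, π.1 (p0 m) = p0 m → π.1 (p1 m) = p1 m →
        π ∈ Subgroup.closure ({s1, s2} : Set (Alt m)) := by
  obtain ⟨g1, g2, hg⟩ := h2 {x : Fin (m + 4) // x ≠ p0 m ∧ x ≠ p1 m}
  have hfix0 : ∀ g : alternatingGroup {x : Fin (m + 4) // x ≠ p0 m ∧ x ≠ p1 m},
      (ALT2_hom m g).1 (p0 m) = p0 m := by
    intro g
    rw [ALT2_hom_coe]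
    exact Equiv.Perm.ofSubtype_apply_of_not_mem g.1 (by simp)
  have hfix1 : ∀ g : alternatingGroup {x : Fin (m + 4) // x ≠ p0 m ∧ x ≠ p1 m},
      (ALT2_hom m g).1 (p1 m) = p1 m := by
    intro g
    rw [ALT2_hom_coe]
    exact Equiv.Perm.ofSubtype_apply_of_not_mem g.1 (by simp)
  refine ⟨ALT2_hom m g1, ALT2_hom m g2, hfix0 g1, hfix1 g1, hfix0 g2, hfix1 g2, ?_⟩
  intro π hπ0 hπ1
  have e0 : ∀ x, π.1 x = p0 m ↔ x = p0 m := by
    intro x
    constructor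
    · intro h
      apply π.1.injective
      rw [h, hπ0]
    · intro h
      rw [h, hπ0]
  have e1 : ∀ x, π.1 x = p1 m ↔ x = p1 m := by
    intro x
    constructor
    · intro h
      apply π.1.injective
      rw [h, hπ1]
    · intro h
      rw [h, hπ1]
  have h₁ : ∀ x, (π.1 x ≠ p0 m ∧ π.1 x ≠ p1 m) ↔ (x ≠ p0 m ∧ x ≠ p1 m) := by
    intro x
    rw [Ne, Ne, Ne, Ne, e0, e1]
  have h₂ : ∀ x, π.1 x ≠ x → (x ≠ p0 m ∧ x ≠ p1 m) := by
    intro x hx
    constructor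
    · rintro rfl
      exact hx hπ0
    · rintro rfl
      exact hx hπ1
  have hsign : Equiv.Perm.subtypePerm π.1 h₁ ∈
      alternatingGroup {x : Fin (m + 4) // x ≠ p0 m ∧ x ≠ p1 m} := by
    rw [Equiv.Perm.mem_alternatingGroup, Equiv.Perm.sign_subtypePerm _ h₁ h₂]
    exact π.2
  have hπ : π = ALT2_hom m ⟨Equiv.Perm.subtypePerm π.1 h₁, hsign⟩ := by
    apply Subtype.ext
    rw [ALT2_hom_coe]
    exact (Equiv.Perm.ofSubtype_subtypePerm h₁ h₂).symm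
  have hmem : (⟨Equiv.Perm.subtypePerm π.1 h₁, hsign⟩ :
      alternatingGroup {x : Fin (m + 4) // x ≠ p0 m ∧ x ≠ p1 m}) ∈
      Subgroup.closure {g1, g2} := by
    rw [hg]
    exact Subgroup.mem_top _
  have h3 := Subgroup.mem_map_of_mem (ALT2_hom m) hmem
  rw [MonoidHom.map_closure, Set.image_pair, ← hπ] at h3
  exact h3

end Cfsg.Agent.Helper1.SLNP
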