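import Mathlib
import Cfsg.Agent.Helper1.SLNP.Defs
import Cfsg.Agent.Helper9.Sp4P.P_SL2F
import Cfsg.Agent.Helper9.Sp4P.P_CW
import Cfsg.Agent.Helper1.SL3P.P_GEN

/-!
# S2290 block (C4) piece (ALTGEN) -- see `tools/helper1_slnp/README.md` and board WANTED of helper1.
-/

set_option autoImplicit false

namespace Cfsg.Agent.Helper1.SLNP

open Matrix Cfsg.Agent.Helper96.StemSLTwo Cfsg.Agent.Helper96.StPres Cfsg.Agent.Helper9.Sp4P
  Cfsg.Agent.Helper1.SL3P Cfsg.Agent.Helper96.StN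

universe u v

variable {K : Type u} [Field K] {D : Type v} [Group D] {m : ℕ}

/-- a permutation moving the first three points to a given triple of distinct points -/
theorem ALTGEN_perm3 (m : ℕ) (a b c : Fin (m + 4)) (hab : a ≠ b) (hac : a ≠ c) (hbc : b ≠ c) :
    ∃ π' : Equiv.Perm (Fin (m + 4)), π' (p0 m) = a ∧ π' (p1 m) = b ∧ π' (p2 m) = c := by
  have h1 : Equiv.swap (p0 m) a (p0 m) = a := Equiv.swap_apply_left _ _
  have n1 : Equiv.swap (p0 m) a (p1 m) ≠ a := by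
    intro h
    exact p0_ne_p1 m ((Equiv.swap (p0 m) a).injective (h1.trans h.symm))
  have h2a : Equiv.swap (Equiv.swap (p0 m) a (p1 m)) b a = a :=
    Equiv.swap_apply_of_ne_of_ne n1.symm hab
  have h2 : Equiv.swap (Equiv.swap (p0 m) a (p1 m)) b (Equiv.swap (p0 m) a (p1 m)) = b :=
    Equiv.swap_apply_left _ _
  have n2a : Equiv.swap (Equiv.swap (p0 m) a (p1 m)) b (Equiv.swap (p0 m) a (p2 m)) ≠ a := by
    intro h
    have e : Equiv.swap (Equiv.swap (p0 m) a (p1 m)) b (Equiv.swap (p0 m) a (p2 m)) =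
        Equiv.swap (Equiv.swap (p0 m) a (p1 m)) b (Equiv.swap (p0 m) a (p0 m)) := by
      rw [h, h1, h2a]
    exact p0_ne_p2 m ((Equiv.swap (p0 m) a).injective
      ((Equiv.swap (Equiv.swap (p0 m) a (p1 m)) b).injective e)).symm
  have n2b : Equiv.swap (Equiv.swap (p0 m) a (p1 m)) b (Equiv.swap (p0 m) a (p2 m)) ≠ b := by
    intro h
    have e : Equiv.swap (Equiv.swap (p0 m) a (p1 m)) b (Equiv.swap (p0 m) a (p2 m)) =
        Equiv.swap (Equiv.swap (p0 m) a (p1 m)) b (Equiv.swap (p0 m) a (p1 m)) := by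
      rw [h, h2]
    exact p1_ne_p2 m ((Equiv.swap (p0 m) a).injective
      ((Equiv.swap (Equiv.swap (p0 m) a (p1 m)) b).injective e)).symm
  refine ⟨Equiv.swap (Equiv.swap (Equiv.swap (p0 m) a (p1 m)) b (Equiv.swap (p0 m) a (p2 m))) c *
    Equiv.swap (Equiv.swap (p0 m) a (p1 m)) b * Equiv.swap (p0 m) a, ?_, ?_, ?_⟩
  · simp only [Equiv.Perm.mul_apply]
    rw [h1, h2a]
    exact Equiv.swap_apply_of_ne_of_ne n2a.symm hac
  · simp only [Equiv.Perm.mul_apply]
    rw [h2]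
    exact Equiv.swap_apply_of_ne_of_ne n2b.symm hbc
  · simp only [Equiv.Perm.mul_apply]
    exact Equiv.swap_apply_left _ _

/-- the 3-cycle `a ↦ b ↦ c ↦ a` lies in the subgroup generated by the conjugates of `c012` -/
theorem ALTGEN_swap_form_mem (m : ℕ) (a b c : Fin (m + 4)) (hab : a ≠ b) (hac : a ≠ c)
    (hbc : b ≠ c) :
    (⟨Equiv.swap a b * Equiv.swap b c, swap_mul_swap_mem hab hbc⟩ : Alt m) ∈
      Subgroup.closure {g : Alt m | ∃ π : Alt m, g = π * c012 m * π⁻¹} := by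
  obtain ⟨π', h0, h1, h2⟩ := ALTGEN_perm3 m a b c hab hac hbc
  have e1 := Equiv.swap_apply_apply π' (p0 m) (p1 m)
  have e2 := Equiv.swap_apply_apply π' (p1 m) (p2 m)
  rw [h0, h1] at e1
  rw [h1, h2] at e2
  have key : Equiv.swap a b * Equiv.swap b c =
      π' * (Equiv.swap (p0 m) (p1 m) * Equiv.swap (p1 m) (p2 m)) * π'⁻¹ := by
    rw [e1, e2]
    group
  rcases Int.units_eq_one_or (Equiv.Perm.sign π') with hs | hs
  · apply Subgroup.subset_closure
    refine ⟨⟨π', Equiv.Perm.mem_alternatingGroup.2 hs⟩, ?_⟩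
    apply Subtype.ext
    exact key
  · have hmem : π' * Equiv.swap (p0 m) (p1 m) ∈ alternatingGroup (Fin (m + 4)) := by
      rw [Equiv.Perm.mem_alternatingGroup, map_mul, hs, Equiv.Perm.sign_swap (p0_ne_p1 m)]
      rfl
    have hin : (⟨π' * Equiv.swap (p0 m) (p1 m), hmem⟩ : Alt m) * c012 m *
        (⟨π' * Equiv.swap (p0 m) (p1 m), hmem⟩ : Alt m)⁻¹ ∈
        Subgroup.closure {g : Alt m | ∃ π : Alt m, g = π * c012 m * π⁻¹} :=
      Subgroup.subset_closure ⟨_, rfl⟩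
    have heq : (⟨Equiv.swap a b * Equiv.swap b c, swap_mul_swap_mem hab hbc⟩ : Alt m) =
        ((⟨π' * Equiv.swap (p0 m) (p1 m), hmem⟩ : Alt m) * c012 m *
        (⟨π' * Equiv.swap (p0 m) (p1 m), hmem⟩ : Alt m)⁻¹)⁻¹ := by
      apply Subtype.ext
      show Equiv.swap a b * Equiv.swap b c =
        ((π' * Equiv.swap (p0 m) (p1 m)) * (Equiv.swap (p0 m) (p1 m) * Equiv.swap (p1 m) (p2 m)) *
          (π' * Equiv.swap (p0 m) (p1 m))⁻¹)⁻¹
      rw [key]
      have hs0 : (Equiv.swap (p0 m) (p1 m))⁻¹ = Equiv.swap (p0 m) (p1 m) := Equiv.swap_inv _ _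
      have hs1 : (Equiv.swap (p1 m) (p2 m))⁻¹ = Equiv.swap (p1 m) (p2 m) := Equiv.swap_inv _ _
      simp only [_root_.mul_inv_rev, inv_inv, hs0, hs1, mul_assoc, Equiv.swap_mul_self_mul]
    rw [heq]
    exact inv_mem hin

theorem alt_le_closure_conj (m : ℕ) :
    Subgroup.closure {g : Alt m | ∃ π : Alt m, g = π * c012 m * π⁻¹} = ⊤ := by
  rw [eq_top_iff, ← alternatingGroup.closure_isThreeCycles_eq_top, Subgroup.closure_le]
  intro g hg
  have hg3 : Equiv.Perm.IsThreeCycle (g : Equiv.Perm (Fin (m + 4))) := hg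
  obtain ⟨a, ha⟩ := hg3.isCycle.nonempty_support
  have hnd := hg3.nodup_iff_mem_support.mpr ha
  have hform := hg3.eq_swap_mul_swap_iff_mem_support.mpr ha
  have hab : a ≠ g.1 a := by
    intro h
    simp [← h] at hnd
  have hac : a ≠ g.1 (g.1 a) := by
    intro h
    simp [← h] at hnd
  have hbc : g.1 a ≠ g.1 (g.1 a) := by
    intro h
    simp [← h] at hnd
  have hmem := ALTGEN_swap_form_mem m a (g.1 a) (g.1 (g.1 a)) hab hac hbc
  have hgeq : g = (⟨Equiv.swap a (g.1 a) * Equiv.swap (g.1 a) (g.1 (g.1 a)),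
      swap_mul_swap_mem hab hbc⟩ : Alt m) := Subtype.ext hform
  rw [hgeq]
  exact hmem

end Cfsg.Agent.Helper1.SLNP
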