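import Mathlib
import Cfsg.Agent.Helper1.SLNP.Defs
import Cfsg.Agent.Helper9.Sp4P.P_SL2F
import Cfsg.Agent.Helper9.Sp4P.P_CW
import Cfsg.Agent.Helper1.SL3P.P_GEN

/-!
# S2290 block (C4) piece (FLIPV) -- see `tools/helper1_slnp/README.md` and board WANTED of helper1.
-/

set_option autoImplicit false

namespace Cfsg.Agent.Helper1.SLNP

open Matrix Cfsg.Agent.Helper96.StemSLTwo Cfsg.Agent.Helper96.StPres Cfsg.Agent.Helper9.Sp4P
  Cfsg.Agent.Helper1.SL3P Cfsg.Agent.Helper96.StN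

universe u v

variable {K : Type u} [Field K] {D : Type v} [Group D] {m : ℕ}

theorem flip_values (z : Kˣ) :
    flip (uMat K 1) = lMat K 1 ∧ flip (dMat (z : K) z.ne_zero) = (dMat (z : K) z.ne_zero)⁻¹ ∧
      flip (WU (1 : K)) = (WU (1 : K))⁻¹ := by
  refine ⟨?_, ?_, ?_⟩
  · apply Subtype.ext
    rw [coe_flip, lMat_coe]
    simp [uMat]
  · rw [eq_inv_iff_mul_eq_one]
    apply Subtype.ext
    rw [Matrix.SpecialLinearGroup.coe_mul, coe_flip, dMat_coe, Matrix.SpecialLinearGroup.coe_one]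
    ext i j
    fin_cases i <;> fin_cases j <;> simp [Matrix.mul_apply, Fin.sum_univ_two, z.ne_zero]
  · rw [eq_inv_iff_mul_eq_one]
    apply Subtype.ext
    rw [Matrix.SpecialLinearGroup.coe_mul, coe_flip, Matrix.SpecialLinearGroup.coe_one]
    have hW : ((WU (1 : K) : SL2 K) : Matrix (Fin 2) (Fin 2) K) = !![0, 1; -1, 0] := by
      unfold WU
      rw [Matrix.SpecialLinearGroup.coe_mul, Matrix.SpecialLinearGroup.coe_mul, lMat_coe]
      ext i j
      fin_cases i <;> fin_cases j <;> simp [uMat, Matrix.mul_apply, Fin.sum_univ_two]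
    rw [hW]
    ext i j
    fin_cases i <;> fin_cases j <;> simp [Matrix.mul_apply, Fin.sum_univ_two]

end Cfsg.Agent.Helper1.SLNP
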