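import Mathlib
import Cfsg.Agent.Helper1.SLNP.Defs
import Cfsg.Agent.Helper9.Sp4P.P_SL2F
import Cfsg.Agent.Helper9.Sp4P.P_CW
import Cfsg.Agent.Helper1.SL3P.P_GEN

/-!
# S2290 block (C4) piece (GDJ) -- see `tools/helper1_slnp/README.md` and board WANTED of helper1.
(filled by helper65)
-/

set_option autoImplicit false

namespace Cfsg.Agent.Helper1.SLNP

open Matrix Cfsg.Agent.Helper96.StemSLTwo Cfsg.Agent.Helper96.StPres Cfsg.Agent.Helper9.Sp4P
  Cfsg.Agent.Helper1.SL3P Cfsg.Agent.Helper96.StN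

universe u v

variable {K : Type u} [Field K] {D : Type v} [Group D] {m : ℕ}

/-- an element commuting with the images of the three generators under a hom commutes with the
whole image -/
theorem GDJ_aux {z : Kˣ}
    (hgen : Subgroup.closure {uMat K 1, dMat (z : K) z.ne_zero, WU (1 : K)} = ⊤)
    (f : SL2 K →* D) (x : D) (h1 : Commute x (f (uMat K 1)))
    (h2 : Commute x (f (dMat (z : K) z.ne_zero))) (h3 : Commute x (f (WU (1 : K)))) :
    ∀ g : SL2 K, Commute x (f g) := by
  intro g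
  have hle : Subgroup.closure {uMat K 1, dMat (z : K) z.ne_zero, WU (1 : K)} ≤
      (Subgroup.centralizer ({x} : Set D)).comap f := by
    rw [Subgroup.closure_le]
    intro y hy
    rw [SetLike.mem_coe, Subgroup.mem_comap, Subgroup.mem_centralizer_singleton_iff]
    rcases hy with rfl | rfl | rfl
    · exact h1.symm.eq
    · exact h2.symm.eq
    · exact h3.symm.eq
  have hg : g ∈ (Subgroup.centralizer ({x} : Set D)).comap f := hle (hgen ▸ Subgroup.mem_top g)
  rw [Subgroup.mem_comap, Subgroup.mem_centralizer_singleton_iff] at hg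
  exact hg.symm

theorem glue_dj {a : SL2 K →* D} {ρ : Alt m →* D} {z : Kˣ} {s1 s2 : Alt m}
    (hgen : Subgroup.closure {uMat K 1, dMat (z : K) z.ne_zero, WU (1 : K)} = ⊤)
    (hG : GlueGen a ρ z s1 s2) :
    ∀ g g' : SL2 K, Commute (a g) (ρ (pi0 m) * a g' * (ρ (pi0 m))⁻¹) := by
  -- the conjugated hom
  obtain ⟨f, hf⟩ : ∃ f : SL2 K →* D, ∀ g' : SL2 K, f g' = ρ (pi0 m) * a g' * (ρ (pi0 m))⁻¹ :=
    ⟨((MulAut.conj (ρ (pi0 m))).toMonoidHom).comp a, fun g' => rfl⟩
  -- generators on the left, everything on the right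
  have hu : ∀ g' : SL2 K, Commute (a (uMat K 1)) (f g') := by
    apply GDJ_aux hgen f
    · rw [hf]; exact hG.duu
    · rw [hf]; exact hG.duh
    · rw [hf]; exact hG.duw
  have hh : ∀ g' : SL2 K, Commute (a (dMat (z : K) z.ne_zero)) (f g') := by
    apply GDJ_aux hgen f
    · rw [hf]; exact hG.dhu
    · rw [hf]; exact hG.dhh
    · rw [hf]; exact hG.dhw
  have hw : ∀ g' : SL2 K, Commute (a (WU (1 : K))) (f g') := by
    apply GDJ_aux hgen f
    · rw [hf]; exact hG.dwu
    · rw [hf]; exact hG.dwh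
    · rw [hf]; exact hG.dww
  intro g g'
  rw [← hf]
  exact (GDJ_aux hgen a (f g') (hu g').symm (hh g').symm (hw g').symm g).symm

end Cfsg.Agent.Helper1.SLNP
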