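import Mathlib
import Cfsg.Agent.Helper1.SLNP.Defs
import Cfsg.Agent.Helper9.Sp4P.P_SL2F
import Cfsg.Agent.Helper9.Sp4P.P_CW
import Cfsg.Agent.Helper1.SL3P.P_GEN

/-!
# S2290 block (C4) piece (GST) -- see `tools/helper1_slnp/README.md` and board WANTED of helper1.
(piece by helper29)
-/

set_option autoImplicit false

namespace Cfsg.Agent.Helper1.SLNP

open Matrix Cfsg.Agent.Helper96.StemSLTwo Cfsg.Agent.Helper96.StPres Cfsg.Agent.Helper9.Sp4P
  Cfsg.Agent.Helper1.SL3P Cfsg.Agent.Helper96.StN

universe u v

variable {K : Type u} [Field K] {D : Type v} [Group D] {m : ℕ}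

/-- an element commuting with the images of the three generators commutes with the image of `a` -/
theorem GST_commute_all {a : SL2 K →* D} {z : Kˣ} (d : D)
    (hgen : Subgroup.closure {uMat K 1, dMat (z : K) z.ne_zero, WU (1 : K)} = ⊤)
    (hu : Commute d (xe a 1)) (hh : Commute d (he a z)) (hw : Commute d (we a)) :
    ∀ g : SL2 K, Commute d (a g) := by
  intro g
  have hg : g ∈ Subgroup.closure {uMat K 1, dMat (z : K) z.ne_zero, WU (1 : K)} := by
    rw [hgen]
    exact Subgroup.mem_top g
  induction hg using Subgroup.closure_induction with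
  | mem x hx =>
    rcases hx with rfl | rfl | rfl
    · exact hu
    · exact hh
    · exact hw
  | one =>
    rw [map_one]
    exact Commute.one_right d
  | mul x y _ _ hx hy =>
    rw [map_mul]
    exact hx.mul_right hy
  | inv x _ hx =>
    rw [map_inv]
    exact hx.inv_right

theorem glue_st {a : SL2 K →* D} {ρ : Alt m →* D} {z : Kˣ} {s1 s2 : Alt m}
    (hgen : Subgroup.closure {uMat K 1, dMat (z : K) z.ne_zero, WU (1 : K)} = ⊤)
    (hs : ∀ π : Alt m, π.1 (p0 m) = p0 m → π.1 (p1 m) = p1 m →
      π ∈ Subgroup.closure ({s1, s2} : Set (Alt m)))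
    (hG : GlueGen a ρ z s1 s2) :
    ∀ π : Alt m, π.1 (p0 m) = p0 m → π.1 (p1 m) = p1 m → ∀ g : SL2 K, Commute (ρ π) (a g) := by
  have key : ∀ π : Alt m, π ∈ Subgroup.closure ({s1, s2} : Set (Alt m)) →
      ∀ g : SL2 K, Commute (ρ π) (a g) := by
    intro π hπ
    induction hπ using Subgroup.closure_induction with
    | mem x hx =>
      rcases hx with rfl | rfl
      · exact GST_commute_all _ hgen hG.s1u hG.s1h hG.s1w
      · exact GST_commute_all _ hgen hG.s2u hG.s2h hG.s2w
    | one =>
      intro g
      rw [map_one]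
      exact Commute.one_left _
    | mul x y _ _ hx hy =>
      intro g
      rw [map_mul]
      exact (hx g).mul_left (hy g)
    | inv x _ hx =>
      intro g
      rw [map_inv]
      exact (hx g).inv_left
  intro π h0 h1
  exact key π (hs π h0 h1)

end Cfsg.Agent.Helper1.SLNP
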