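import Mathlib
import Cfsg.Agent.Helper1.SLNP.Defs
import Cfsg.Agent.Helper9.Sp4P.P_SL2F
import Cfsg.Agent.Helper9.Sp4P.P_CW
import Cfsg.Agent.Helper1.SL3P.P_GEN

/-!
# S2290 block (C4) piece (SL2GEN) -- see `tools/helper1_slnp/README.md` and board WANTED of helper1.
-/

set_option autoImplicit false

namespace Cfsg.Agent.Helper1.SLNP

open Matrix Cfsg.Agent.Helper96.StemSLTwo Cfsg.Agent.Helper96.StPres Cfsg.Agent.Helper9.Sp4P
  Cfsg.Agent.Helper1.SL3P Cfsg.Agent.Helper96.StN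

universe u v

variable {K : Type u} [Field K] {D : Type v} [Group D] {m : ℕ}

theorem SL2GEN_uMat_neg (x : K) : uMat K (-x) = (uMat K x)⁻¹ := by
  apply eq_inv_of_mul_eq_one_right
  rw [← uMat_add, add_neg_cancel, uMat_zero]

theorem SL2GEN_diff_sq [Fintype K] (t : K) : ∃ a b : K, t = a ^ 2 - b ^ 2 := by
  by_cases h2 : ringChar K = 2
  · obtain ⟨a, ha⟩ := FiniteField.isSquare_of_char_two h2 t
    exact ⟨a, 0, by rw [ha]; ring⟩
  · have h20 : (2 : K) ≠ 0 := Ring.two_ne_zero h2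
    refine ⟨(t + 1) / 2, (t - 1) / 2, ?_⟩
    field_simp
    ring

theorem closure_u_h_w [Fintype K] {z : Kˣ} (hz : ∀ s : Kˣ, ∃ n : ℕ, z ^ n = s) :
    Subgroup.closure {uMat K 1, dMat (z : K) z.ne_zero, WU (1 : K)} = ⊤ := by
  set H := Subgroup.closure {uMat K 1, dMat (z : K) z.ne_zero, WU (1 : K)} with hH
  have hu : uMat K 1 ∈ H := Subgroup.subset_closure (by simp)
  have hh : dMat (z : K) z.ne_zero ∈ H := Subgroup.subset_closure (by simp)
  have hw : WU (1 : K) ∈ H := Subgroup.subset_closure (by simp)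
  have hpow : ∀ n : ℕ, dMat ((z : K) ^ n) (pow_ne_zero n z.ne_zero) ∈ H := by
    intro n
    induction n with
    | zero =>
      rw [dMat_congr (pow_zero _) _ one_ne_zero, dMat_one]
      exact one_mem _
    | succ n ih =>
      have h1 := H.mul_mem ih hh
      rw [dMat_mul] at h1
      rwa [dMat_congr (pow_succ _ _) _ (mul_ne_zero (pow_ne_zero n z.ne_zero) z.ne_zero)]
  have hsq : ∀ s : K, uMat K (s ^ 2) ∈ H := by
    intro s
    by_cases hs : s = 0
    · rw [hs, zero_pow (by norm_num), uMat_zero]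
      exact one_mem _
    · obtain ⟨n, hn⟩ := hz (Units.mk0 s hs)
      have hn' : (z : K) ^ n = s := by
        have := congrArg Units.val hn
        rwa [Units.val_pow_eq_pow_val, Units.val_mk0] at this
      have h1 := hpow n
      have h2 := H.mul_mem (H.mul_mem h1 hu) (H.inv_mem h1)
      rw [dMat_conj, mul_one, hn'] at h2
      exact h2
  have hall : ∀ t : K, uMat K t ∈ H := by
    intro t
    obtain ⟨a, b, rfl⟩ := SL2GEN_diff_sq t
    rw [sub_eq_add_neg, uMat_add, SL2GEN_uMat_neg]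
    exact H.mul_mem (hsq a) (H.inv_mem (hsq b))
  have hl : ∀ t : K, lMat K t ∈ H := by
    intro t
    have h1 := H.mul_mem (H.mul_mem hw (hall (-t))) (H.inv_mem hw)
    rw [WU_conj 1 (-t) one_ne_zero] at h1
    have e : -((1 : K)⁻¹ ^ 2 * -t) = t := by simp
    rwa [e] at h1
  rw [eq_top_iff, ← closure_uMat_lMat, Subgroup.closure_le]
  rintro _ ⟨⟨b, t⟩, rfl⟩
  cases b
  · exact hl t
  · exact hall t

end Cfsg.Agent.Helper1.SLNP
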