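import Mathlib
import Cfsg.Agent.Helper1.SLNP.Defs
import Cfsg.Agent.Helper9.Sp4P.P_SL2F
import Cfsg.Agent.Helper9.Sp4P.P_CW
import Cfsg.Agent.Helper1.SL3P.P_GEN

/-!
# S2290 block (C4) piece (STN) -- see `tools/helper1_slnp/README.md` and board WANTED of helper1.
-/

set_option autoImplicit false

namespace Cfsg.Agent.Helper1.SLNP

open Matrix Cfsg.Agent.Helper96.StemSLTwo Cfsg.Agent.Helper96.StPres Cfsg.Agent.Helper9.Sp4P
  Cfsg.Agent.Helper1.SL3P Cfsg.Agent.Helper96.StN

universe u v

variable {K : Type u} [Field K] {D : Type v} [Group D] {m : ℕ}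

/-- three distinct points give an injective triple -/
theorem STN_inj3 {α : Type*} {i j l : α} (hij : i ≠ j) (hil : i ≠ l) (hjl : j ≠ l) :
    Function.Injective ![i, j, l] := by
  intro x y hxy
  fin_cases x <;> fin_cases y <;> simp_all

/-- a third point -/
theorem STN_third (m : ℕ) (i j : Fin (m + 4)) : ∃ l : Fin (m + 4), i ≠ l ∧ j ≠ l := by
  classical
  have hcard : ({i, j} : Finset (Fin (m + 4))).card < (Finset.univ : Finset (Fin (m + 4))).card := by
    rw [Finset.card_univ, Fintype.card_fin]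
    have := Finset.card_le_two (a := i) (b := j)
    omega
  obtain ⟨l, -, hl⟩ := Finset.exists_mem_notMem_of_card_lt_card hcard
  rw [Finset.mem_insert, Finset.mem_singleton, not_or] at hl
  exact ⟨l, fun h => hl.1 h.symm, fun h => hl.2 h.symm⟩

theorem stRel_XN {a : SL2 K →* D} {ρ : Alt m →* D}
    (htri : ∀ f : Fin 3 → Fin (m + 4), Function.Injective f →
      StRel (fun i j : Fin 3 => XN a ρ (f i) (f j)))
    (hdj : ∀ (i j k l : Fin (m + 4)), i ≠ j → i ≠ k → i ≠ l → j ≠ k → j ≠ l → k ≠ l →
      ∀ t u : K, Commute (XN a ρ i j t) (XN a ρ k l u)) :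
    StRel (XN a ρ) := by
  have hadd : ∀ i j : Fin (m + 4), i ≠ j → ∀ t u : K,
      XN a ρ i j (t + u) = XN a ρ i j t * XN a ρ i j u := by
    intro i j hij t u
    obtain ⟨l, hil, hjl⟩ := STN_third m i j
    exact (htri ![i, j, l] (STN_inj3 hij hil hjl)).add 0 1 (by decide) t u
  refine ⟨hadd, ?_, ?_⟩
  · intro i j k l hij hkl hjk hil t u
    by_cases hik : i = k
    · subst hik
      by_cases hjl : j = l
      · subst hjl
        rw [← hadd i j hij t u, ← hadd i j hij u t, add_comm]
      · exact (htri ![i, j, l] (STN_inj3 hij hil hjl)).comm 0 1 0 2 (by decide) (by decide)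
          (by decide) (by decide) t u
    · by_cases hjl : j = l
      · subst hjl
        exact (htri ![i, k, j] (STN_inj3 hik hij hkl)).comm 0 2 1 2 (by decide) (by decide)
          (by decide) (by decide) t u
      · exact (hdj i j k l hij hik hil hjk hjl hkl t u).eq
  · intro i j l hij hjl hil t u
    exact (htri ![i, j, l] (STN_inj3 hij hil hjl)).mul 0 1 2 (by decide) (by decide) (by decide) t u

end Cfsg.Agent.Helper1.SLNP
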