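import Mathlib
import Cfsg.Agent.Helper1.SLNP.Defs
import Cfsg.Agent.Helper9.Sp4P.P_SL2F
import Cfsg.Agent.Helper9.Sp4P.P_CW
import Cfsg.Agent.Helper1.SL3P.P_GEN

/-!
# S2290 block (C4) piece (T2) -- see `tools/helper1_slnp/README.md` and board WANTED of helper1.
-/

set_option autoImplicit false

namespace Cfsg.Agent.Helper1.SLNP

open Matrix Cfsg.Agent.Helper96.StemSLTwo Cfsg.Agent.Helper96.StPres Cfsg.Agent.Helper9.Sp4P
  Cfsg.Agent.Helper1.SL3P Cfsg.Agent.Helper96.StN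

universe u v

variable {K : Type u} [Field K] {D : Type v} [Group D] {m : ℕ}

theorem T2_perm (m : ℕ) (i j : Fin (m + 4)) (hij : i ≠ j) :
    ∃ π' : Equiv.Perm (Fin (m + 4)), π' (p0 m) = i ∧ π' (p1 m) = j := by
  have h01 : p0 m ≠ p1 m := p0_ne_p1 m
  have h1 : Equiv.swap (p0 m) i (p0 m) = i := Equiv.swap_apply_left _ _
  have hne : Equiv.swap (p0 m) i (p1 m) ≠ i := by
    intro h
    rw [← h1] at h
    exact h01 ((Equiv.swap (p0 m) i).injective h).symm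
  have h2 : Equiv.swap (Equiv.swap (p0 m) i (p1 m)) j i = i :=
    Equiv.swap_apply_of_ne_of_ne hne.symm hij
  refine ⟨Equiv.swap (Equiv.swap (p0 m) i (p1 m)) j * Equiv.swap (p0 m) i, ?_, ?_⟩
  · rw [Equiv.Perm.mul_apply, h1, h2]
  · rw [Equiv.Perm.mul_apply]
    exact Equiv.swap_apply_left _ _

theorem exists_alt_two (m : ℕ) (i j : Fin (m + 4)) (hij : i ≠ j) :
    ∃ π : Alt m, π.1 (p0 m) = i ∧ π.1 (p1 m) = j := by
  obtain ⟨π', hp0, hp1⟩ := T2_perm m i j hij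
  rcases Int.units_eq_one_or (Equiv.Perm.sign π') with hs | hs
  · exact ⟨⟨π', Equiv.Perm.mem_alternatingGroup.2 hs⟩, hp0, hp1⟩
  · refine ⟨⟨π' * Equiv.swap (p2 m) (p3 m), ?_⟩, ?_, ?_⟩
    · rw [Equiv.Perm.mem_alternatingGroup, map_mul, hs, Equiv.Perm.sign_swap (p2_ne_p3 m)]
      rfl
    · show (π' * Equiv.swap (p2 m) (p3 m)) (p0 m) = i
      rw [Equiv.Perm.mul_apply, Equiv.swap_apply_of_ne_of_ne (p0_ne_p2 m) (p0_ne_p3 m), hp0]
    · show (π' * Equiv.swap (p2 m) (p3 m)) (p1 m) = j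
      rw [Equiv.Perm.mul_apply, Equiv.swap_apply_of_ne_of_ne (p1_ne_p2 m) (p1_ne_p3 m), hp1]

end Cfsg.Agent.Helper1.SLNP
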