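import Mathlib
import Cfsg.Agent.Helper1.SLNP.Defs
import Cfsg.Agent.Helper9.Sp4P.P_SL2F
import Cfsg.Agent.Helper9.Sp4P.P_CW
import Cfsg.Agent.Helper1.SL3P.P_GEN

/-!
# S2290 block (C4) piece (T3) -- see `tools/helper1_slnp/README.md` and board WANTED of helper1.
-/

set_option autoImplicit false

namespace Cfsg.Agent.Helper1.SLNP

open Matrix Cfsg.Agent.Helper96.StemSLTwo Cfsg.Agent.Helper96.StPres Cfsg.Agent.Helper9.Sp4P
  Cfsg.Agent.Helper1.SL3P Cfsg.Agent.Helper96.StN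

universe u v

variable {K : Type u} [Field K] {D : Type v} [Group D] {m : ℕ}

/-- a permutation extending a partial injection -/
theorem T3_exists_perm {α : Type*} [Fintype α] [DecidableEq α] {ι : Type*} (g f : ι → α)
    (hg : Function.Injective g) (hf : Function.Injective f) :
    ∃ σ : Equiv.Perm α, ∀ x, σ (g x) = f x := by
  classical
  let e : {a // a ∈ Set.range g} ≃ {a // a ∈ Set.range f} :=
    (Equiv.ofInjective g hg).symm.trans (Equiv.ofInjective f hf)
  refine ⟨e.extendSubtype, fun x => ?_⟩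
  rw [Equiv.extendSubtype_apply_of_mem e (g x) ⟨x, rfl⟩]
  show ((Equiv.ofInjective f hf) ((Equiv.ofInjective g hg).symm ⟨g x, ⟨x, rfl⟩⟩) : α) = f x
  rw [Equiv.ofInjective_symm_apply]
  rfl

theorem exists_alt_three (m : ℕ) (f : Fin 3 → Fin (m + 4)) (hf : Function.Injective f) :
    ∃ (π : Alt m) (e : Equiv.Perm (Fin 3)), ∀ x : Fin 3, π.1 (emb m x) = f (e x) := by
  have hg : Function.Injective (emb m) := by
    intro a b hab
    simp only [emb, Fin.mk.injEq] at hab
    exact Fin.ext hab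
  obtain ⟨σ, hσ⟩ := T3_exists_perm _ _ hg hf
  rcases Int.units_eq_one_or (Equiv.Perm.sign σ) with hs | hs
  · exact ⟨⟨σ, Equiv.Perm.mem_alternatingGroup.mpr hs⟩, 1, fun x => hσ x⟩
  · have e0 : emb m 0 = p0 m := rfl
    have e1 : emb m 1 = p1 m := rfl
    have h01 : p0 m ≠ p1 m := by simp [p0, p1]
    have h20 : emb m 2 ≠ p0 m := by simp [emb, p0, Fin.ext_iff]
    have h21 : emb m 2 ≠ p1 m := by simp [emb, p1, Fin.ext_iff]
    refine ⟨⟨σ * Equiv.swap (p0 m) (p1 m), ?_⟩, Equiv.swap 0 1, ?_⟩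
    · rw [Equiv.Perm.mem_alternatingGroup, map_mul, hs, Equiv.Perm.sign_swap h01]
      rfl
    · intro x
      show σ (Equiv.swap (p0 m) (p1 m) (emb m x)) = f (Equiv.swap 0 1 x)
      fin_cases x
      · show σ (Equiv.swap (p0 m) (p1 m) (emb m 0)) = f (Equiv.swap 0 1 0)
        rw [e0, Equiv.swap_apply_left, Equiv.swap_apply_left, ← e1, hσ]
      · show σ (Equiv.swap (p0 m) (p1 m) (emb m 1)) = f (Equiv.swap 0 1 1)
        rw [e1, Equiv.swap_apply_right, Equiv.swap_apply_right, ← e0, hσ]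
      · show σ (Equiv.swap (p0 m) (p1 m) (emb m 2)) = f (Equiv.swap 0 1 2)
        rw [Equiv.swap_apply_of_ne_of_ne h20 h21, hσ]
        congr 1

end Cfsg.Agent.Helper1.SLNP
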