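import Mathlib
import Cfsg.Agent.Helper1.SLNP.Defs
import Cfsg.Agent.Helper9.Sp4P.P_SL2F
import Cfsg.Agent.Helper9.Sp4P.P_CW
import Cfsg.Agent.Helper1.SL3P.P_GEN

/-!
# S2290 block (C4) piece (T4) -- see `tools/helper1_slnp/README.md` and board WANTED of helper1.
(piece by helper48)
-/

set_option autoImplicit false

namespace Cfsg.Agent.Helper1.SLNP

open Matrix Cfsg.Agent.Helper96.StemSLTwo Cfsg.Agent.Helper96.StPres Cfsg.Agent.Helper9.Sp4P
  Cfsg.Agent.Helper1.SL3P Cfsg.Agent.Helper96.StN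

universe u v

variable {K : Type u} [Field K] {D : Type v} [Group D] {m : ℕ}

/-- two injective families in a finite type differ by a permutation -/
theorem T4_exists_perm {α ι : Type*} [Finite α] (g f : ι → α) (hg : Function.Injective g)
    (hf : Function.Injective f) : ∃ σ : Equiv.Perm α, ∀ a, σ (g a) = f a := by
  classical
  let e : {x // x ∈ Set.range g} ≃ {x // x ∈ Set.range f} :=
    (Equiv.ofInjective g hg).symm.trans (Equiv.ofInjective f hf)
  refine ⟨e.extendSubtype, fun a => ?_⟩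
  rw [Equiv.extendSubtype_apply_of_mem e (g a) ⟨a, rfl⟩]
  have h1 : (Equiv.ofInjective g hg).symm ⟨g a, ⟨a, rfl⟩⟩ = a :=
    Equiv.ofInjective_symm_apply hg a
  simp only [e, Equiv.trans_apply, h1, Equiv.ofInjective_apply]

theorem exists_alt_four (m : ℕ) (i j k l : Fin (m + 4)) (hij : i ≠ j) (hik : i ≠ k) (hil : i ≠ l)
    (hjk : j ≠ k) (hjl : j ≠ l) (hkl : k ≠ l) :
    ∃ π : Alt m, ((π.1 (p0 m) = i ∧ π.1 (p1 m) = j) ∨ (π.1 (p0 m) = j ∧ π.1 (p1 m) = i)) ∧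
      π.1 (p2 m) = k ∧ π.1 (p3 m) = l := by
  have hg : Function.Injective ![p0 m, p1 m, p2 m, p3 m] := by
    have h01 := p0_ne_p1 m
    have h12 := p1_ne_p2 m
    have h23 := p2_ne_p3 m
    have h02 := p0_ne_p2 m
    have h13 := p1_ne_p3 m
    have h03 := p0_ne_p3 m
    intro a b hab
    fin_cases a <;> fin_cases b <;> simp_all
  have hf : Function.Injective ![i, j, k, l] := by
    intro a b hab
    fin_cases a <;> fin_cases b <;> simp_all
  obtain ⟨σ, hσ⟩ := T4_exists_perm ![p0 m, p1 m, p2 m, p3 m] ![i, j, k, l] hg hf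
  have h0 : σ (p0 m) = i := hσ 0
  have h1 : σ (p1 m) = j := hσ 1
  have h2 : σ (p2 m) = k := hσ 2
  have h3 : σ (p3 m) = l := hσ 3
  rcases Int.units_eq_one_or (Equiv.Perm.sign σ) with hs | hs
  · exact ⟨⟨σ, Equiv.Perm.mem_alternatingGroup.2 hs⟩, Or.inl ⟨h0, h1⟩, h2, h3⟩
  · refine ⟨⟨σ * Equiv.swap (p0 m) (p1 m), ?_⟩, Or.inr ⟨?_, ?_⟩, ?_, ?_⟩
    · rw [Equiv.Perm.mem_alternatingGroup, map_mul, hs, Equiv.Perm.sign_swap (p0_ne_p1 m)]
      rfl
    · show σ (Equiv.swap (p0 m) (p1 m) (p0 m)) = j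
      rw [Equiv.swap_apply_left, h1]
    · show σ (Equiv.swap (p0 m) (p1 m) (p1 m)) = i
      rw [Equiv.swap_apply_right, h0]
    · show σ (Equiv.swap (p0 m) (p1 m) (p2 m)) = k
      rw [Equiv.swap_apply_of_ne_of_ne (p0_ne_p2 m).symm (p1_ne_p2 m).symm, h2]
    · show σ (Equiv.swap (p0 m) (p1 m) (p3 m)) = l
      rw [Equiv.swap_apply_of_ne_of_ne (p0_ne_p3 m).symm (p1_ne_p3 m).symm, h3]

end Cfsg.Agent.Helper1.SLNP
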