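import Mathlib
import Cfsg.Agent.Helper1.SLNP.Defs
import Cfsg.Agent.Helper9.Sp4P.P_SL2F
import Cfsg.Agent.Helper9.Sp4P.P_CW
import Cfsg.Agent.Helper1.SL3P.P_GEN

/-!
# S2290 block (C4) piece (X3N) -- see `tools/helper1_slnp/README.md` and board WANTED of helper1.
-/

set_option autoImplicit false

namespace Cfsg.Agent.Helper1.SLNP

open Matrix Cfsg.Agent.Helper96.StemSLTwo Cfsg.Agent.Helper96.StPres Cfsg.Agent.Helper9.Sp4P
  Cfsg.Agent.Helper1.SL3P Cfsg.Agent.Helper96.StN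

universe u v

variable {K : Type u} [Field K] {D : Type v} [Group D] {m : ℕ}

theorem XN_emb {a : SL2 K →* D} {ρ : Alt m →* D} (hx : HXeq a ρ) (hxy : HXYeq a ρ) :
    HX3N a ρ := by
  have e0 : emb m 0 = p0 m := rfl
  have e1 : emb m 1 = p1 m := rfl
  have e2 : emb m 2 = p2 m := rfl
  have c0 : (c012 m).1 (p0 m) = p1 m := by
    change (Equiv.swap (p0 m) (p1 m) * Equiv.swap (p1 m) (p2 m)) (p0 m) = p1 m
    rw [Equiv.Perm.mul_apply, Equiv.swap_apply_of_ne_of_ne (p0_ne_p1 m) (p0_ne_p2 m),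
      Equiv.swap_apply_left]
  have c1 : (c012 m).1 (p1 m) = p2 m := by
    change (Equiv.swap (p0 m) (p1 m) * Equiv.swap (p1 m) (p2 m)) (p1 m) = p2 m
    rw [Equiv.Perm.mul_apply, Equiv.swap_apply_left,
      Equiv.swap_apply_of_ne_of_ne (p0_ne_p2 m).symm (p1_ne_p2 m).symm]
  have c2 : (c012 m).1 (p2 m) = p0 m := by
    change (Equiv.swap (p0 m) (p1 m) * Equiv.swap (p1 m) (p2 m)) (p2 m) = p0 m
    rw [Equiv.Perm.mul_apply, Equiv.swap_apply_right, Equiv.swap_apply_right]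
  have cc0 : (c012 m * c012 m).1 (p0 m) = p2 m := by
    change (c012 m).1 ((c012 m).1 (p0 m)) = p2 m
    rw [c0, c1]
  have cc1 : (c012 m * c012 m).1 (p1 m) = p0 m := by
    change (c012 m).1 ((c012 m).1 (p1 m)) = p0 m
    rw [c1, c2]
  have one0 : (1 : Alt m).1 (p0 m) = p0 m := rfl
  have one1 : (1 : Alt m).1 (p1 m) = p1 m := rfl
  intro i j t
  fin_cases i <;> fin_cases j
  · change XN a ρ (emb m 0) (emb m 0) t = 1
    unfold XN
    rw [if_pos rfl]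
  · change XN a ρ (p0 m) (p1 m) t = xe a t
    rw [← hx (p0 m) (p1 m) (p0_ne_p1 m) 1 one0 one1 t, map_one, one_mul, inv_one, mul_one]
  · change XN a ρ (p0 m) (p2 m) t = ρ (c012 m) * ρ (c012 m) * ye a t * (ρ (c012 m) * ρ (c012 m))⁻¹
    rw [← hxy (p2 m) (p0 m) (p0_ne_p2 m).symm (c012 m * c012 m) cc0 cc1 t, map_mul]
  · change XN a ρ (p1 m) (p0 m) t = ye a t
    rw [← hxy (p0 m) (p1 m) (p0_ne_p1 m) 1 one0 one1 t, map_one, one_mul, inv_one, mul_one]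
  · change XN a ρ (emb m 1) (emb m 1) t = 1
    unfold XN
    rw [if_pos rfl]
  · change XN a ρ (p1 m) (p2 m) t = ρ (c012 m) * xe a t * (ρ (c012 m))⁻¹
    rw [← hx (p1 m) (p2 m) (p1_ne_p2 m) (c012 m) c0 c1 t]
  · change XN a ρ (p2 m) (p0 m) t = ρ (c012 m) * ρ (c012 m) * xe a t * (ρ (c012 m) * ρ (c012 m))⁻¹
    rw [← hx (p2 m) (p0 m) (p0_ne_p2 m).symm (c012 m * c012 m) cc0 cc1 t, map_mul]
  · change XN a ρ (p2 m) (p1 m) t = ρ (c012 m) * ye a t * (ρ (c012 m))⁻¹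
    rw [← hxy (p1 m) (p2 m) (p1_ne_p2 m) (c012 m) c0 c1 t]
  · change XN a ρ (emb m 2) (emb m 2) t = 1
    unfold XN
    rw [if_pos rfl]

end Cfsg.Agent.Helper1.SLNP
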