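import Mathlib
import Cfsg.Agent.Helper1.SLNP.Defs
import Cfsg.Agent.Helper9.Sp4P.P_SL2F
import Cfsg.Agent.Helper9.Sp4P.P_CW
import Cfsg.Agent.Helper1.SL3P.P_GEN

/-!
# S2290 block (C4) piece (XDJ) -- see `tools/helper1_slnp/README.md` and board WANTED of helper1.
(helper68 for helper1)
-/

set_option autoImplicit false

namespace Cfsg.Agent.Helper1.SLNP

open Matrix Cfsg.Agent.Helper96.StemSLTwo Cfsg.Agent.Helper96.StPres Cfsg.Agent.Helper9.Sp4P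
  Cfsg.Agent.Helper1.SL3P Cfsg.Agent.Helper96.StN

universe u v

variable {K : Type u} [Field K] {D : Type v} [Group D] {m : ℕ}

theorem XDJ_pi0_p0 (m : ℕ) : (pi0 m).1 (p0 m) = p2 m := by
  show (Equiv.swap (p0 m) (p2 m) * Equiv.swap (p1 m) (p3 m)) (p0 m) = p2 m
  rw [Equiv.Perm.mul_apply, Equiv.swap_apply_of_ne_of_ne (p0_ne_p1 m) (p0_ne_p3 m), Equiv.swap_apply_left]

theorem XDJ_pi0_p1 (m : ℕ) : (pi0 m).1 (p1 m) = p3 m := by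
  show (Equiv.swap (p0 m) (p2 m) * Equiv.swap (p1 m) (p3 m)) (p1 m) = p3 m
  rw [Equiv.Perm.mul_apply, Equiv.swap_apply_left,
    Equiv.swap_apply_of_ne_of_ne (p0_ne_p3 m).symm (p2_ne_p3 m).symm]

theorem XN_disjoint {a : SL2 K →* D} {ρ : Alt m →* D}
    (hT4 : ∀ (i j k l : Fin (m + 4)), i ≠ j → i ≠ k → i ≠ l → j ≠ k → j ≠ l → k ≠ l →
      ∃ π : Alt m, ((π.1 (p0 m) = i ∧ π.1 (p1 m) = j) ∨ (π.1 (p0 m) = j ∧ π.1 (p1 m) = i)) ∧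
        π.1 (p2 m) = k ∧ π.1 (p3 m) = l)
    (hx : HXeq a ρ) (hxy : HXYeq a ρ) (hc : HXconj a ρ)
    (hdj : ∀ g g' : SL2 K, Commute (a g) (ρ (pi0 m) * a g' * (ρ (pi0 m))⁻¹))
    (i j k l : Fin (m + 4)) (hij : i ≠ j) (hik : i ≠ k) (hil : i ≠ l)
    (hjk : j ≠ k) (hjl : j ≠ l) (hkl : k ≠ l) (t u : K) :
    Commute (XN a ρ i j t) (XN a ρ k l u) := by
  -- the three basic root elements
  have h01 : XN a ρ (p0 m) (p1 m) t = xe a t := by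
    have h := hx (p0 m) (p1 m) (p0_ne_p1 m) 1 rfl rfl t
    rw [map_one, one_mul, inv_one, mul_one] at h
    exact h.symm
  have h10 : XN a ρ (p1 m) (p0 m) t = ye a t := by
    have h := hxy (p0 m) (p1 m) (p0_ne_p1 m) 1 rfl rfl t
    rw [map_one, one_mul, inv_one, mul_one] at h
    exact h.symm
  have h23 : XN a ρ (p2 m) (p3 m) u = ρ (pi0 m) * xe a u * (ρ (pi0 m))⁻¹ :=
    (hx (p2 m) (p3 m) (p2_ne_p3 m) (pi0 m) (XDJ_pi0_p0 m) (XDJ_pi0_p1 m) u).symm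
  have c1 : Commute (XN a ρ (p0 m) (p1 m) t) (XN a ρ (p2 m) (p3 m) u) := by
    rw [h01, h23]
    exact hdj (uMat K t) (uMat K u)
  have c2 : Commute (XN a ρ (p1 m) (p0 m) t) (XN a ρ (p2 m) (p3 m) u) := by
    rw [h10, h23]
    exact hdj (lMat K t) (uMat K u)
  obtain ⟨π, hπ, hπ2, hπ3⟩ := hT4 i j k l hij hik hil hjk hjl hkl
  have hkl' : XN a ρ k l u = ρ π * XN a ρ (p2 m) (p3 m) u * (ρ π)⁻¹ := by
    rw [hc π (p2 m) (p3 m) u, hπ2, hπ3]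
  rcases hπ with ⟨hπ0, hπ1⟩ | ⟨hπ0, hπ1⟩
  · have hij' : XN a ρ i j t = ρ π * XN a ρ (p0 m) (p1 m) t * (ρ π)⁻¹ := by
      rw [hc π (p0 m) (p1 m) t, hπ0, hπ1]
    rw [hij', hkl']
    exact (Commute.conj_iff (ρ π)).mpr c1
  · have hij' : XN a ρ i j t = ρ π * XN a ρ (p1 m) (p0 m) t * (ρ π)⁻¹ := by
      rw [hc π (p1 m) (p0 m) t, hπ0, hπ1]
    rw [hij', hkl']
    exact (Commute.conj_iff (ρ π)).mpr c2

end Cfsg.Agent.Helper1.SLNP
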