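import Mathlib
import Cfsg.Agent.Helper1.SLNP.Defs
import Cfsg.Agent.Helper9.Sp4P.P_SL2F
import Cfsg.Agent.Helper9.Sp4P.P_CW
import Cfsg.Agent.Helper1.SL3P.P_GEN

/-!
# S2290 block (C4) piece (XEQ) -- see `tools/helper1_slnp/README.md` and board WANTED of helper1.
(delivered by helper59)
-/

set_option autoImplicit false

namespace Cfsg.Agent.Helper1.SLNP

open Matrix Cfsg.Agent.Helper96.StemSLTwo Cfsg.Agent.Helper96.StPres Cfsg.Agent.Helper9.Sp4P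
  Cfsg.Agent.Helper1.SL3P Cfsg.Agent.Helper96.StN

universe u v

variable {K : Type u} [Field K] {D : Type v} [Group D] {m : ℕ}

theorem XEQ_pick_spec (hT2 : HT2 m) {i j : Fin (m + 4)} (hij : i ≠ j) :
    (pick m i j).1 (p0 m) = i ∧ (pick m i j).1 (p1 m) = j := by
  classical
  have hex : ∃ π : Alt m, π.1 (p0 m) = i ∧ π.1 (p1 m) = j := hT2 i j hij
  unfold pick
  rw [dif_pos hex]
  exact Classical.choose_spec hex

theorem XN_eq {a : SL2 K →* D} {ρ : Alt m →* D} (hT2 : HT2 m)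
    (hst : ∀ π : Alt m, π.1 (p0 m) = p0 m → π.1 (p1 m) = p1 m → ∀ g : SL2 K,
      Commute (ρ π) (a g)) : HXeq a ρ := by
  classical
  intro i j hij π hπ0 hπ1 t
  unfold XN
  rw [if_neg hij]
  obtain ⟨hp0, hp1⟩ := XEQ_pick_spec hT2 hij
  set π0 := pick m i j with hπ0def
  have h1 : (π0⁻¹ * π).1 (p0 m) = p0 m := by
    show (π0.1⁻¹ * π.1) (p0 m) = p0 m
    rw [Equiv.Perm.mul_apply, hπ0, Equiv.Perm.inv_eq_iff_eq]
    exact hp0.symm
  have h2 : (π0⁻¹ * π).1 (p1 m) = p1 m := by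
    show (π0.1⁻¹ * π.1) (p1 m) = p1 m
    rw [Equiv.Perm.mul_apply, hπ1, Equiv.Perm.inv_eq_iff_eq]
    exact hp1.symm
  have hc := hst (π0⁻¹ * π) h1 h2 (uMat K t)
  have hπ : ρ π = ρ π0 * ρ (π0⁻¹ * π) := by rw [← map_mul, mul_inv_cancel_left]
  have hc' : ρ (π0⁻¹ * π) * xe a t * (ρ (π0⁻¹ * π))⁻¹ = xe a t := hc.mul_inv_cancel
  calc ρ π * xe a t * (ρ π)⁻¹
      = ρ π0 * (ρ (π0⁻¹ * π) * xe a t * (ρ (π0⁻¹ * π))⁻¹) * (ρ π0)⁻¹ := by
        rw [hπ]; group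
    _ = ρ π0 * xe a t * (ρ π0)⁻¹ := by rw [hc']

end Cfsg.Agent.Helper1.SLNP
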