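import Mathlib
import Cfsg.Agent.Helper1.SLNP.Defs
import Cfsg.Agent.Helper9.Sp4P.P_SL2F
import Cfsg.Agent.Helper9.Sp4P.P_CW
import Cfsg.Agent.Helper1.SL3P.P_GEN

/-!
# S2290 block (C4) piece (XEQV) -- see `tools/helper1_slnp/README.md` and board WANTED of helper1.
(piece by helper48)
-/

set_option autoImplicit false

namespace Cfsg.Agent.Helper1.SLNP

open Matrix Cfsg.Agent.Helper96.StemSLTwo Cfsg.Agent.Helper96.StPres Cfsg.Agent.Helper9.Sp4P
  Cfsg.Agent.Helper1.SL3P Cfsg.Agent.Helper96.StN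

universe u v

variable {K : Type u} [Field K] {D : Type v} [Group D] {m : ℕ}

theorem XEQV_XN_self (a : SL2 K →* D) (ρ : Alt m →* D) (i : Fin (m + 4)) (t : K) :
    XN a ρ i i t = 1 := by
  unfold XN
  rw [if_pos rfl]

theorem XN_conj {a : SL2 K →* D} {ρ : Alt m →* D} (hT2 : HT2 m) (hx : HXeq a ρ) :
    HXconj a ρ := by
  intro π i j t
  by_cases hij : i = j
  · subst hij
    rw [XEQV_XN_self, XEQV_XN_self, mul_one, mul_inv_cancel]
  · obtain ⟨π', h0, h1⟩ := hT2 i j hij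
    have hπij : π.1 i ≠ π.1 j := fun h => hij (π.1.injective h)
    have e1 := hx i j hij π' h0 h1 t
    have h0' : (π * π').1 (p0 m) = π.1 i := by
      show π.1 (π'.1 (p0 m)) = π.1 i
      rw [h0]
    have h1' : (π * π').1 (p1 m) = π.1 j := by
      show π.1 (π'.1 (p1 m)) = π.1 j
      rw [h1]
    have e2 := hx (π.1 i) (π.1 j) hπij (π * π') h0' h1' t
    rw [← e1, ← e2, map_mul]
    group

end Cfsg.Agent.Helper1.SLNP
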