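import Mathlib
import Cfsg.Agent.Helper1.SLNP.Defs
import Cfsg.Agent.Helper9.Sp4P.P_SL2F
import Cfsg.Agent.Helper9.Sp4P.P_CW
import Cfsg.Agent.Helper1.SL3P.P_GEN

/-!
# S2290 block (C4) piece (XTRI) -- see `tools/helper1_slnp/README.md` and board WANTED of helper1.
-/

set_option autoImplicit false

namespace Cfsg.Agent.Helper1.SLNP

open Matrix Cfsg.Agent.Helper96.StemSLTwo Cfsg.Agent.Helper96.StPres Cfsg.Agent.Helper9.Sp4P
  Cfsg.Agent.Helper1.SL3P Cfsg.Agent.Helper96.StN

universe u v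

variable {K : Type u} [Field K] {D : Type v} [Group D] {m : ℕ}

/-- the Steinberg relations are stable under conjugation -/
theorem XTRI_conj {ι : Type*} {X : ι → ι → K → D} (h : StRel X) (g : D) :
    StRel (fun i j t => g * X i j t * g⁻¹) where
  add i j hij t u := by
    show g * X i j (t + u) * g⁻¹ = (g * X i j t * g⁻¹) * (g * X i j u * g⁻¹)
    rw [h.add i j hij t u]
    group
  comm i j k l hij hkl hjk hil t u := by
    show (g * X i j t * g⁻¹) * (g * X k l u * g⁻¹) = (g * X k l u * g⁻¹) * (g * X i j t * g⁻¹)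
    have e := h.comm i j k l hij hkl hjk hil t u
    calc (g * X i j t * g⁻¹) * (g * X k l u * g⁻¹) = g * (X i j t * X k l u) * g⁻¹ := by group
      _ = g * (X k l u * X i j t) * g⁻¹ := by rw [e]
      _ = (g * X k l u * g⁻¹) * (g * X i j t * g⁻¹) := by group
  mul i j l hij hjl hil t u := by
    show (g * X i j t * g⁻¹) * (g * X j l u * g⁻¹) * (g * X i j t * g⁻¹)⁻¹ * (g * X j l u * g⁻¹)⁻¹ =
      g * X i l (t * u) * g⁻¹
    rw [← h.mul i j l hij hjl hil t u]
    group

/-- the Steinberg relations are stable under relabelling by an injective map -/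
theorem XTRI_relabel {ι κ : Type*} {X : ι → ι → K → D} (h : StRel X) (e : κ → ι)
    (he : Function.Injective e) : StRel (fun i j => X (e i) (e j)) where
  add i j hij t u := h.add (e i) (e j) (fun hh => hij (he hh)) t u
  comm i j k l hij hkl hjk hil t u :=
    h.comm (e i) (e j) (e k) (e l) (fun hh => hij (he hh)) (fun hh => hkl (he hh))
      (fun hh => hjk (he hh)) (fun hh => hil (he hh)) t u
  mul i j l hij hjl hil t u :=
    h.mul (e i) (e j) (e l) (fun hh => hij (he hh)) (fun hh => hjl (he hh))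
      (fun hh => hil (he hh)) t u

theorem XN_triple {a : SL2 K →* D} {ρ : Alt m →* D}
    (hT3 : ∀ f : Fin 3 → Fin (m + 4), Function.Injective f →
      ∃ (π : Alt m) (e : Equiv.Perm (Fin 3)), ∀ x : Fin 3, π.1 (emb m x) = f (e x))
    (hc : HXconj a ρ) (h3n : HX3N a ρ)
    (h3 : StRel (X3 a (ρ (c012 m)))) (f : Fin 3 → Fin (m + 4)) (hf : Function.Injective f) :
    StRel (fun i j : Fin 3 => XN a ρ (f i) (f j)) := by
  obtain ⟨π, e, hπ⟩ := hT3 f hf
  have h1 : StRel (fun i j : Fin 3 => X3 a (ρ (c012 m)) (e.symm i) (e.symm j)) :=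
    XTRI_relabel h3 e.symm e.symm.injective
  have h2 := XTRI_conj h1 (ρ π)
  have heq : (fun i j : Fin 3 => XN a ρ (f i) (f j)) =
      (fun i j t => ρ π * X3 a (ρ (c012 m)) (e.symm i) (e.symm j) t * (ρ π)⁻¹) := by
    funext i j t
    rw [← h3n (e.symm i) (e.symm j) t, hc π, hπ, hπ, Equiv.apply_symm_apply,
      Equiv.apply_symm_apply]
  rw [heq]
  exact h2

end Cfsg.Agent.Helper1.SLNP
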