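import Mathlib
import Cfsg.Agent.Helper1.SLNP.Defs
import Cfsg.Agent.Helper9.Sp4P.P_SL2F
import Cfsg.Agent.Helper9.Sp4P.P_CW
import Cfsg.Agent.Helper1.SL3P.P_GEN

/-!
# S2290 block (C4) piece (XYEQ) -- see `tools/helper1_slnp/README.md` and board WANTED of helper1.
(delivered by helper59)
-/

set_option autoImplicit false

namespace Cfsg.Agent.Helper1.SLNP

open Matrix Cfsg.Agent.Helper96.StemSLTwo Cfsg.Agent.Helper96.StPres Cfsg.Agent.Helper9.Sp4P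
  Cfsg.Agent.Helper1.SL3P Cfsg.Agent.Helper96.StN

universe u v

variable {K : Type u} [Field K] {D : Type v} [Group D] {m : ℕ}

theorem XYEQ_lMat_eq_flip (t : K) : lMat K t = flip (uMat K t) := by
  apply Subtype.ext
  rw [coe_flip, lMat_coe]
  simp [uMat_coe]

theorem XYEQ_sg_p0 : (sg m).1 (p0 m) = p1 m := by
  show (Equiv.swap (p0 m) (p1 m) * Equiv.swap (p2 m) (p3 m)) (p0 m) = p1 m
  rw [Equiv.Perm.mul_apply, Equiv.swap_apply_of_ne_of_ne (p0_ne_p2 m) (p0_ne_p3 m),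
    Equiv.swap_apply_left]

theorem XYEQ_sg_p1 : (sg m).1 (p1 m) = p0 m := by
  show (Equiv.swap (p0 m) (p1 m) * Equiv.swap (p2 m) (p3 m)) (p1 m) = p0 m
  rw [Equiv.Perm.mul_apply, Equiv.swap_apply_of_ne_of_ne (p1_ne_p2 m) (p1_ne_p3 m),
    Equiv.swap_apply_right]

theorem XN_eq_y {a : SL2 K →* D} {ρ : Alt m →* D} (hx : HXeq a ρ)
    (hfl : ∀ g : SL2 K, ρ (sg m) * a g * (ρ (sg m))⁻¹ = a (flip g)) : HXYeq a ρ := by
  intro i j hij π hπ0 hπ1 t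
  have hy : ye a t = ρ (sg m) * xe a t * (ρ (sg m))⁻¹ := by
    unfold ye xe
    rw [XYEQ_lMat_eq_flip, hfl]
  have h0 : (π * sg m).1 (p0 m) = j := by
    show (π.1 * (sg m).1) (p0 m) = j
    rw [Equiv.Perm.mul_apply, XYEQ_sg_p0, hπ1]
  have h1 : (π * sg m).1 (p1 m) = i := by
    show (π.1 * (sg m).1) (p1 m) = i
    rw [Equiv.Perm.mul_apply, XYEQ_sg_p1, hπ0]
  have h := hx j i hij.symm (π * sg m) h0 h1 t
  rw [← h, hy, map_mul]
  group

end Cfsg.Agent.Helper1.SLNP
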