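import Mathlib
import Cfsg.Agent.Helper1.SLNP.Defs
import Cfsg.Agent.Helper1.SL3P.MainA
import Cfsg.Agent.Helper1.SL3P.P_GEN
import Cfsg.Agent.Helper1.SLNP.P_T2
import Cfsg.Agent.Helper1.SLNP.P_T3
import Cfsg.Agent.Helper1.SLNP.P_T4
import Cfsg.Agent.Helper1.SLNP.P_ALT2
import Cfsg.Agent.Helper1.SLNP.P_ALTGEN
import Cfsg.Agent.Helper1.SLNP.P_SL2GEN
import Cfsg.Agent.Helper1.SLNP.P_FLIPV
import Cfsg.Agent.Helper1.SLNP.P_GST
import Cfsg.Agent.Helper1.SLNP.P_GFL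
import Cfsg.Agent.Helper1.SLNP.P_GDJ
import Cfsg.Agent.Helper1.SLNP.P_XEQ
import Cfsg.Agent.Helper1.SLNP.P_XYEQ
import Cfsg.Agent.Helper1.SLNP.P_XEQV
import Cfsg.Agent.Helper1.SLNP.P_X3N
import Cfsg.Agent.Helper1.SLNP.P_XDJ
import Cfsg.Agent.Helper1.SLNP.P_XTRI
import Cfsg.Agent.Helper1.SLNP.P_STN
import Cfsg.Agent.Helper1.SLNP.P_GENN

set_option autoImplicit false

namespace Cfsg.Agent.Helper1.SLNP

open Matrix Cfsg.Agent.Helper96.StemSLTwo Cfsg.Agent.Helper96.StPres Cfsg.Agent.Helper9.Sp4P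
  Cfsg.Agent.Helper1.SL3P Cfsg.Agent.Helper96.StN

universe u v

variable {K : Type u} [Field K] {D : Type v} [Group D] {m : ℕ}

/-! ## permutations -/

/-! ## from generators to all elements -/

/-! ## the root subgroups -/

/-! ## assembly of the abstract part -/

theorem glue_of_gen [Fintype K] {a : SL2 K →* D} {ρ : Alt m →* D} {z : Kˣ} {s1 s2 : Alt m}
    (hz : ∀ s : Kˣ, ∃ n : ℕ, z ^ n = s)
    (hs : ∀ π : Alt m, π.1 (p0 m) = p0 m → π.1 (p1 m) = p1 m →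
      π ∈ Subgroup.closure ({s1, s2} : Set (Alt m)))
    (hG : GlueGen a ρ z s1 s2) : Glue a ρ :=
  ⟨glue_st (closure_u_h_w hz) hs hG, glue_fl (closure_u_h_w hz) (flip_values z) hG,
    glue_dj (closure_u_h_w hz) hG⟩

theorem hxeq_of_glue {a : SL2 K →* D} {ρ : Alt m →* D} (hG : Glue a ρ) : HXeq a ρ :=
  XN_eq (exists_alt_two m) hG.st

theorem hxyeq_of_glue {a : SL2 K →* D} {ρ : Alt m →* D} (hG : Glue a ρ) : HXYeq a ρ :=
  XN_eq_y (hxeq_of_glue hG) hG.fl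

theorem hxconj_of_glue {a : SL2 K →* D} {ρ : Alt m →* D} (hG : Glue a ρ) : HXconj a ρ :=
  XN_conj (exists_alt_two m) (hxeq_of_glue hG)

theorem hx3n_of_glue {a : SL2 K →* D} {ρ : Alt m →* D} (hG : Glue a ρ) : HX3N a ρ :=
  XN_emb (hxeq_of_glue hG) (hxyeq_of_glue hG)

theorem stRel_XN_of_glue {a : SL2 K →* D} {ρ : Alt m →* D} (hG : Glue a ρ)
    (h3 : StRel (X3 a (ρ (c012 m)))) : StRel (XN a ρ) :=
  stRel_XN (fun f hf => XN_triple (exists_alt_three m) (hxconj_of_glue hG) (hx3n_of_glue hG) h3 f hf)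
    (fun i j k l hij hik hil hjk hjl hkl t u =>
      XN_disjoint (exists_alt_four m) (hxeq_of_glue hG) (hxyeq_of_glue hG) (hxconj_of_glue hG)
        hG.dj i j k l hij hik hil hjk hjl hkl t u)

theorem gen_XN_of_glue {a : SL2 K →* D} {ρ : Alt m →* D} {z : Kˣ} (hG : Glue a ρ)
    (hB : CrossB a (ρ (c012 m)) z) (htop : a.range ⊔ ρ.range = ⊤) :
    Subgroup.closure {g | ∃ i j, i ≠ j ∧ ∃ t, g = XN a ρ i j t} = ⊤ :=
  gen_XN (hxconj_of_glue hG) (hx3n_of_glue hG) (alt_le_closure_conj m) hB htop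

end Cfsg.Agent.Helper1.SLNP
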