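import Mathlib
import Cfsg.Agent.Helper1.SLNP.Defs
import Cfsg.Agent.Helper1.SL3P.P_CWB
import Cfsg.Agent.Helper1.SL3P.P_CWE
import Cfsg.Agent.Helper9.Sp4P.P_SL2F
import Cfsg.Agent.Helper9.Sp4P.P_CW
import Cfsg.Agent.Helper1.SL3P.P_GEN

/-!
# S2290 block (C4) piece (CRMAP) -- see `tools/helper1_slnp/README.md` and board WANTED of helper1.
-/

set_option autoImplicit false

namespace Cfsg.Agent.Helper1.SLNP

open Matrix Cfsg.Agent.Helper96.StemSLTwo Cfsg.Agent.Helper96.StPres Cfsg.Agent.Helper9.Sp4P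
  Cfsg.Agent.Helper1.SL3P Cfsg.Agent.Helper96.StN

universe u v

variable {K : Type u} [Field K] {D : Type v} [Group D] {m : ℕ}

theorem cross_map {E : Type*} [Group E] (φ : D →* E) (a : SL2 K →* D) (c : D) (z : Kˣ) :
    (CrossB a c z → CrossB (φ.comp a) (φ c) z) ∧ (CrossE a c z → CrossE (φ.comp a) (φ c) z) := by
  constructor
  · intro hB
    rw [crossB_iff_words] at hB ⊢
    intro w hw
    have e : wordsB (xe (φ.comp a) 1) (he (φ.comp a) z) (we (φ.comp a)) (xe (φ.comp a) ((z : K)⁻¹))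
        (φ c) = (wordsB (xe a 1) (he a z) (we a) (xe a ((z : K)⁻¹)) c).map φ := by
      rw [map_wordsB]
      rfl
    rw [e] at hw
    obtain ⟨r, hr, rfl⟩ := List.mem_map.1 hw
    rw [hB r hr, map_one]
  · intro hE
    rw [crossE_iff_words] at hE ⊢
    intro w hw
    have e : wordsE (xe (φ.comp a) 1) (he (φ.comp a) z) (we (φ.comp a)) (φ c) =
        (wordsE (xe a 1) (he a z) (we a) c).map φ := by
      rw [map_wordsE]
      rfl
    rw [e] at hw
    obtain ⟨r, hr, rfl⟩ := List.mem_map.1 hw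
    rw [hE r hr, map_one]

end Cfsg.Agent.Helper1.SLNP
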