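import Mathlib
import Cfsg.Agent.Helper1.SLNP.Defs
import Cfsg.Agent.Helper9.Sp4P.P_SL2F
import Cfsg.Agent.Helper9.Sp4P.P_CW
import Cfsg.Agent.Helper1.SL3P.P_GEN

/-!
# S2290 block (C4) piece (CWG) -- see `tools/helper1_slnp/README.md` and board WANTED of helper1.
(filled by helper15)
-/

set_option autoImplicit false

namespace Cfsg.Agent.Helper1.SLNP

open Matrix Cfsg.Agent.Helper96.StemSLTwo Cfsg.Agent.Helper96.StPres Cfsg.Agent.Helper9.Sp4P
  Cfsg.Agent.Helper1.SL3P Cfsg.Agent.Helper96.StN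

universe u v

variable {K : Type u} [Field K] {D : Type v} [Group D] {m : ℕ}

theorem glueGen_iff_words (a : SL2 K →* D) (ρ : Alt m →* D) (z : Kˣ) (s1 s2 : Alt m) :
    GlueGen a ρ z s1 s2 ↔
      ∀ w ∈ wordsG (xe a 1) (he a z) (we a) (ρ s1) (ρ s2) (ρ (sg m)) (ρ (pi0 m)), w = 1 := by
  constructor
  · intro hc w hw
    simp only [wordsG, List.mem_cons, List.not_mem_nil, or_false] at hw
    rcases hw with rfl | rfl | rfl | rfl | rfl | rfl | rfl | rfl | rfl | rfl | rfl | rfl |
      rfl | rfl | rfl | rfl | rfl | rfl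
    · exact (CW_commute_iff _ _).mpr hc.s1u
    · exact (CW_commute_iff _ _).mpr hc.s1h
    · exact (CW_commute_iff _ _).mpr hc.s1w
    · exact (CW_commute_iff _ _).mpr hc.s2u
    · exact (CW_commute_iff _ _).mpr hc.s2h
    · exact (CW_commute_iff _ _).mpr hc.s2w
    · have := hc.fu
      rw [CW_ye_one] at this
      exact mul_inv_eq_one.mpr this
    · exact mul_eq_one_iff_eq_inv.mpr hc.fh
    · exact mul_eq_one_iff_eq_inv.mpr hc.fw
    · exact (CW_commute_iff _ _).mpr hc.duu
    · exact (CW_commute_iff _ _).mpr hc.duh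
    · exact (CW_commute_iff _ _).mpr hc.duw
    · exact (CW_commute_iff _ _).mpr hc.dhu
    · exact (CW_commute_iff _ _).mpr hc.dhh
    · exact (CW_commute_iff _ _).mpr hc.dhw
    · exact (CW_commute_iff _ _).mpr hc.dwu
    · exact (CW_commute_iff _ _).mpr hc.dwh
    · exact (CW_commute_iff _ _).mpr hc.dww
  · intro h
    refine ⟨?_, ?_, ?_, ?_, ?_, ?_, ?_, ?_, ?_, ?_, ?_, ?_, ?_, ?_, ?_, ?_, ?_, ?_⟩
    · exact (CW_commute_iff _ _).mp (h _ (by simp [wordsG]))
    · exact (CW_commute_iff _ _).mp (h _ (by simp [wordsG]))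
    · exact (CW_commute_iff _ _).mp (h _ (by simp [wordsG]))
    · exact (CW_commute_iff _ _).mp (h _ (by simp [wordsG]))
    · exact (CW_commute_iff _ _).mp (h _ (by simp [wordsG]))
    · exact (CW_commute_iff _ _).mp (h _ (by simp [wordsG]))
    · rw [CW_ye_one]
      exact mul_inv_eq_one.mp (h _ (by simp [wordsG]))
    · exact mul_eq_one_iff_eq_inv.mp (h _ (by simp [wordsG]))
    · exact mul_eq_one_iff_eq_inv.mp (h _ (by simp [wordsG]))
    · exact (CW_commute_iff _ _).mp (h _ (by simp [wordsG]))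
    · exact (CW_commute_iff _ _).mp (h _ (by simp [wordsG]))
    · exact (CW_commute_iff _ _).mp (h _ (by simp [wordsG]))
    · exact (CW_commute_iff _ _).mp (h _ (by simp [wordsG]))
    · exact (CW_commute_iff _ _).mp (h _ (by simp [wordsG]))
    · exact (CW_commute_iff _ _).mp (h _ (by simp [wordsG]))
    · exact (CW_commute_iff _ _).mp (h _ (by simp [wordsG]))
    · exact (CW_commute_iff _ _).mp (h _ (by simp [wordsG]))
    · exact (CW_commute_iff _ _).mp (h _ (by simp [wordsG]))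

end Cfsg.Agent.Helper1.SLNP
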