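import Mathlib
import Cfsg.Agent.Helper1.SLNP.Defs
import Cfsg.Agent.Helper9.Sp4P.P_SL2F
import Cfsg.Agent.Helper9.Sp4P.P_CW
import Cfsg.Agent.Helper1.SL3P.P_GEN

/-!
# S2290 block (C4) piece (GG) -- see `tools/helper1_slnp/README.md` and board WANTED of helper1.
-/

set_option autoImplicit false

namespace Cfsg.Agent.Helper1.SLNP

open Matrix Cfsg.Agent.Helper96.StemSLTwo Cfsg.Agent.Helper96.StPres Cfsg.Agent.Helper9.Sp4P
  Cfsg.Agent.Helper1.SL3P Cfsg.Agent.Helper96.StN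

universe u v

variable {K : Type u} [Field K] {D : Type v} [Group D] {m : ℕ}

theorem glueGen_of_glue {a : SL2 K →* D} {ρ : Alt m →* D} (z : Kˣ) {s1 s2 : Alt m}
    (hv : flip (uMat K 1) = lMat K 1 ∧ flip (dMat (z : K) z.ne_zero) = (dMat (z : K) z.ne_zero)⁻¹ ∧
      flip (WU (1 : K)) = (WU (1 : K))⁻¹)
    (h10 : s1.1 (p0 m) = p0 m) (h11 : s1.1 (p1 m) = p1 m) (h20 : s2.1 (p0 m) = p0 m)
    (h21 : s2.1 (p1 m) = p1 m) (hG : Glue a ρ) : GlueGen a ρ z s1 s2 := by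
  obtain ⟨hv1, hv2, hv3⟩ := hv
  refine ⟨hG.st s1 h10 h11 _, hG.st s1 h10 h11 _, hG.st s1 h10 h11 _,
    hG.st s2 h20 h21 _, hG.st s2 h20 h21 _, hG.st s2 h20 h21 _, ?_, ?_, ?_,
    hG.dj _ _, hG.dj _ _, hG.dj _ _, hG.dj _ _, hG.dj _ _, hG.dj _ _, hG.dj _ _, hG.dj _ _,
    hG.dj _ _⟩
  · unfold xe ye
    rw [hG.fl, hv1]
  · unfold he
    rw [hG.fl, hv2, map_inv]
  · unfold we
    rw [hG.fl, hv3, map_inv]

end Cfsg.Agent.Helper1.SLNP
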