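import Mathlib
import Cfsg.Agent.Helper1.SLNP.Defs

/-!
# S2290 block (C4) piece (MODC) -- see `tools/helper1_slnp/README.md` and board WANTED of helper1.
-/

set_option autoImplicit false

namespace Cfsg.Agent.Helper1.SLNP

open Matrix Cfsg.Agent.Helper96.StemSLTwo Cfsg.Agent.Helper96.StPres Cfsg.Agent.Helper9.Sp4P
  Cfsg.Agent.Helper1.SL3P Cfsg.Agent.Helper96.StN

universe u v

variable (F : Type u) [Field F] (m : ℕ)

theorem MODC_c0 : (c012 m).1 (p0 m) = p1 m := by
  show (Equiv.swap (p0 m) (p1 m) * Equiv.swap (p1 m) (p2 m)) (p0 m) = p1 m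
  rw [Equiv.Perm.mul_apply, Equiv.swap_apply_of_ne_of_ne (p0_ne_p1 m) (p0_ne_p2 m),
    Equiv.swap_apply_left]

theorem MODC_c1 : (c012 m).1 (p1 m) = p2 m := by
  show (Equiv.swap (p0 m) (p1 m) * Equiv.swap (p1 m) (p2 m)) (p1 m) = p2 m
  rw [Equiv.Perm.mul_apply, Equiv.swap_apply_left,
    Equiv.swap_apply_of_ne_of_ne (p0_ne_p2 m).symm (p1_ne_p2 m).symm]

theorem MODC_c2 : (c012 m).1 (p2 m) = p0 m := by
  show (Equiv.swap (p0 m) (p1 m) * Equiv.swap (p1 m) (p2 m)) (p2 m) = p0 m
  rw [Equiv.Perm.mul_apply, Equiv.swap_apply_right, Equiv.swap_apply_right]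

theorem MODC_cge (j : Fin (m + 4)) (hj : 3 ≤ j.val) : (c012 m).1 j = j := by
  show (Equiv.swap (p0 m) (p1 m) * Equiv.swap (p1 m) (p2 m)) j = j
  have h0 : j ≠ p0 m := by intro h; rw [h] at hj; simp [p0] at hj
  have h1 : j ≠ p1 m := by intro h; rw [h] at hj; simp [p1] at hj
  have h2 : j ≠ p2 m := by intro h; rw [h] at hj; simp [p2] at hj
  rw [Equiv.Perm.mul_apply, Equiv.swap_apply_of_ne_of_ne h1 h2, Equiv.swap_apply_of_ne_of_ne h0 h1]

theorem MODC_cM (a b : Fin 3) :
    (cM F).1 a b = if a.val = (b.val + 1) % 3 then 1 else 0 := by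
  rw [coe_cM]
  fin_cases a <;> fin_cases b <;> simp

theorem rhoM_c012
    (hι : ∀ (g : SL3 F) (i j : Fin (m + 4)),
      (iota3 F m g).1 i j = if h : i.val < 3 ∧ j.val < 3 then g.1 ⟨i.val, h.1⟩ ⟨j.val, h.2⟩
        else if i = j then 1 else 0) :
    rhoM F m (c012 m) = iota3 F m (cM F) := by
  apply Subtype.ext
  ext i j
  rw [coe_rhoM, hι]
  by_cases hj : j.val < 3
  · have hj' : j = p0 m ∨ j = p1 m ∨ j = p2 m := by
      have : j.val = 0 ∨ j.val = 1 ∨ j.val = 2 := by omega
      rcases this with h | h | h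
      · left; exact Fin.ext h
      · right; left; exact Fin.ext h
      · right; right; exact Fin.ext h
    by_cases hi : i.val < 3
    · have hi' : i = p0 m ∨ i = p1 m ∨ i = p2 m := by
        have : i.val = 0 ∨ i.val = 1 ∨ i.val = 2 := by omega
        rcases this with h | h | h
        · left; exact Fin.ext h
        · right; left; exact Fin.ext h
        · right; right; exact Fin.ext h
      rw [dif_pos ⟨hi, hj⟩, MODC_cM]
      rcases hj' with rfl | rfl | rfl <;> rcases hi' with rfl | rfl | rfl <;>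
        simp only [ MODC_c0, MODC_c1, MODC_c2] <;>
        simp [p0, p1, p2, Fin.ext_iff]
    · rw [dif_neg (fun h => hi h.1)]
      have h1 : i ≠ (c012 m).1 j := by
        intro h
        apply hi
        rw [h]
        rcases hj' with rfl | rfl | rfl
        · rw [ MODC_c0]; simp [p1]
        · rw [ MODC_c1]; simp [p2]
        · rw [ MODC_c2]; simp [p0]
      have h2 : i ≠ j := by
        intro h; rw [h] at hi; exact hi hj
      rw [if_neg h1, if_neg h2]
  · rw [dif_neg (fun h => hj h.2), MODC_cge m j (by omega)]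

end Cfsg.Agent.Helper1.SLNP
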