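import Mathlib
import Cfsg.Agent.Helper1.SLNP.Defs

/-!
# S2290 block (C4) piece (MODCJ) -- see `tools/helper1_slnp/README.md` and board WANTED of helper1.
-/

set_option autoImplicit false

namespace Cfsg.Agent.Helper1.SLNP

open Matrix Cfsg.Agent.Helper96.StemSLTwo Cfsg.Agent.Helper96.StPres Cfsg.Agent.Helper9.Sp4P
  Cfsg.Agent.Helper1.SL3P Cfsg.Agent.Helper96.StN

universe u v

variable (F : Type u) [Field F] (m : ℕ)

theorem MODCJ_apply_inv (π : Alt m) (i : Fin (m + 4)) : π.1 ((π⁻¹).1 i) = i := by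
  have : (π⁻¹).1 = (π.1)⁻¹ := rfl
  rw [this]
  exact (Equiv.eq_symm_apply π.1).mp rfl

theorem rhoM_conj (π : Alt m) (S : SLN m F) (i j : Fin (m + 4)) :
    (rhoM F m π * S * (rhoM F m π)⁻¹).1 i j = S.1 ((π⁻¹).1 i) ((π⁻¹).1 j) := by
  rw [← map_inv, Matrix.SpecialLinearGroup.coe_mul, Matrix.SpecialLinearGroup.coe_mul,
    Matrix.mul_apply]
  rw [Finset.sum_eq_single ((π⁻¹).1 j)]
  · rw [coe_rhoM, if_pos rfl, mul_one, Matrix.mul_apply, Finset.sum_eq_single ((π⁻¹).1 i)]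
    · rw [coe_rhoM, if_pos (MODCJ_apply_inv m π i).symm, one_mul]
    · intro l _ hl
      rw [coe_rhoM, if_neg, zero_mul]
      intro h
      apply hl
      rw [h]
      have : (π⁻¹).1 = (π.1)⁻¹ := rfl
      rw [this]
      exact (Equiv.Perm.inv_eq_iff_eq.mpr rfl).symm
    · intro h; exact absurd (Finset.mem_univ _) h
  · intro k _ hk
    rw [coe_rhoM, if_neg hk, mul_zero]
  · intro h; exact absurd (Finset.mem_univ _) h

end Cfsg.Agent.Helper1.SLNP
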