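import Mathlib
import Cfsg.Agent.Helper1.SLNP.Defs

/-!
# S2290 block (C4) piece (MODDJ) -- see `tools/helper1_slnp/README.md` and board WANTED of helper1.
-/

set_option autoImplicit false

namespace Cfsg.Agent.Helper1.SLNP

open Matrix Cfsg.Agent.Helper96.StemSLTwo Cfsg.Agent.Helper96.StPres Cfsg.Agent.Helper9.Sp4P
  Cfsg.Agent.Helper1.SL3P Cfsg.Agent.Helper96.StN

universe u v

variable (F : Type u) [Field F] (m : ℕ)

/-- a column of `eNMat` outside `p0, p1` is a column of the identity -/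
theorem MODDJ_col (g : Matrix (Fin 2) (Fin 2) F) (i k : Fin (m + 4)) (h0 : k ≠ p0 m) (h1 : k ≠ p1 m) :
    eNMat F m g i k = if i = k then 1 else 0 := by
  simp [eNMat, h0, h1]

/-- a row of `eNMat` outside `p0, p1` is a row of the identity -/
theorem MODDJ_row (g : Matrix (Fin 2) (Fin 2) F) (k j : Fin (m + 4)) (h0 : k ≠ p0 m) (h1 : k ≠ p1 m) :
    eNMat F m g k j = if k = j then 1 else 0 := by
  simp [eNMat, h0, h1]

/-- two matrices `A = 1 + N`, `B = 1 + N'` with `N N' = 0 = N' N` commute -/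
theorem MODDJ_comm {n : Type*} [Fintype n] [DecidableEq n] (A B : Matrix n n F)
    (h1 : (A - 1) * (B - 1) = 0) (h2 : (B - 1) * (A - 1) = 0) : A * B = B * A := by
  have e1 : A * B = A + B - 1 := by
    have : (A - 1) * (B - 1) = A * B - A - B + 1 := by noncomm_ring
    rw [this] at h1
    have h3 : A * B = (A * B - A - B + 1) + (A + B - 1) := by abel
    rw [h3, h1, zero_add]
  have e2 : B * A = A + B - 1 := by
    have : (B - 1) * (A - 1) = B * A - B - A + 1 := by noncomm_ring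
    rw [this] at h2
    have h3 : B * A = (B * A - B - A + 1) + (A + B - 1) := by abel
    rw [h3, h2, zero_add]
  rw [e1, e2]

theorem model_dj
    (hE : ∀ g : SL2 F, (eN F m g).1 = eNMat F m g.1)
    (hcj : ∀ (π : Alt m) (S : SLN m F) (i j : Fin (m + 4)),
      (rhoM F m π * S * (rhoM F m π)⁻¹).1 i j = S.1 ((π⁻¹).1 i) ((π⁻¹).1 j)) :
    ∀ g g' : SL2 F,
      Commute (eN F m g) (rhoM F m (pi0 m) * eN F m g' * (rhoM F m (pi0 m))⁻¹) := by
  intro g g'
  -- the permutation `σ = π₀⁻¹`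
  have hinv : ((pi0 m)⁻¹).1 = ((pi0 m).1)⁻¹ := rfl
  have hp0 : (pi0 m).1 (p0 m) = p2 m := by
    show (Equiv.swap (p0 m) (p2 m) * Equiv.swap (p1 m) (p3 m)) (p0 m) = p2 m
    rw [Equiv.Perm.mul_apply, Equiv.swap_apply_of_ne_of_ne (p0_ne_p1 m) (p0_ne_p3 m),
      Equiv.swap_apply_left]
  have hp1 : (pi0 m).1 (p1 m) = p3 m := by
    show (Equiv.swap (p0 m) (p2 m) * Equiv.swap (p1 m) (p3 m)) (p1 m) = p3 m
    rw [Equiv.Perm.mul_apply, Equiv.swap_apply_left,
      Equiv.swap_apply_of_ne_of_ne (p0_ne_p3 m).symm (p2_ne_p3 m).symm]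
  have s0 : ∀ k : Fin (m + 4), ((pi0 m)⁻¹).1 k = p0 m ↔ k = p2 m := by
    intro k
    rw [hinv, Equiv.Perm.inv_eq_iff_eq, hp0]
  have s1 : ∀ k : Fin (m + 4), ((pi0 m)⁻¹).1 k = p1 m ↔ k = p3 m := by
    intro k
    rw [hinv, Equiv.Perm.inv_eq_iff_eq, hp1]
  have hB : ∀ i j : Fin (m + 4),
      (rhoM F m (pi0 m) * eN F m g' * (rhoM F m (pi0 m))⁻¹).1 i j =
        eNMat F m g'.1 (((pi0 m)⁻¹).1 i) (((pi0 m)⁻¹).1 j) := by
    intro i j
    rw [hcj, hE]
  have hσinj : ∀ i j : Fin (m + 4), ((pi0 m)⁻¹).1 i = ((pi0 m)⁻¹).1 j ↔ i = j :=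
    fun i j => ((pi0 m)⁻¹).1.injective.eq_iff
  -- rows and columns of `B` at `p0, p1` are those of the identity
  have hBrow : ∀ k j : Fin (m + 4), (k = p0 m ∨ k = p1 m) →
      (rhoM F m (pi0 m) * eN F m g' * (rhoM F m (pi0 m))⁻¹).1 k j = if k = j then 1 else 0 := by
    intro k j hk
    rw [hB, MODDJ_row]
    · simp only [hσinj]
    · rw [Ne, s0]
      rcases hk with rfl | rfl
      · exact p0_ne_p2 m
      · exact p1_ne_p2 m
    · rw [Ne, s1]
      rcases hk with rfl | rfl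
      · exact p0_ne_p3 m
      · exact p1_ne_p3 m
  have hBcol : ∀ i k : Fin (m + 4), (k = p0 m ∨ k = p1 m) →
      (rhoM F m (pi0 m) * eN F m g' * (rhoM F m (pi0 m))⁻¹).1 i k = if i = k then 1 else 0 := by
    intro i k hk
    rw [hB, MODDJ_col]
    · simp only [hσinj]
    · rw [Ne, s0]
      rcases hk with rfl | rfl
      · exact p0_ne_p2 m
      · exact p1_ne_p2 m
    · rw [Ne, s1]
      rcases hk with rfl | rfl
      · exact p0_ne_p3 m
      · exact p1_ne_p3 m
  show eN F m g * (rhoM F m (pi0 m) * eN F m g' * (rhoM F m (pi0 m))⁻¹) =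
    (rhoM F m (pi0 m) * eN F m g' * (rhoM F m (pi0 m))⁻¹) * eN F m g
  apply Subtype.ext
  rw [Matrix.SpecialLinearGroup.coe_mul, Matrix.SpecialLinearGroup.coe_mul (_ * _ * _)]
  apply MODDJ_comm
  · ext i j
    rw [Matrix.mul_apply, Matrix.zero_apply]
    apply Finset.sum_eq_zero
    intro k _
    by_cases hk : k = p0 m ∨ k = p1 m
    · have : ((rhoM F m (pi0 m) * eN F m g' * (rhoM F m (pi0 m))⁻¹).1 - 1) k j = 0 := by
        rw [Matrix.sub_apply, hBrow k j hk, Matrix.one_apply, sub_self]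
      rw [this, mul_zero]
    · have hk' : k ≠ p0 m ∧ k ≠ p1 m := by
        constructor
        · intro h; exact hk (Or.inl h)
        · intro h; exact hk (Or.inr h)
      have : ((eN F m g).1 - 1) i k = 0 := by
        rw [Matrix.sub_apply, hE, MODDJ_col F m g.1 i k hk'.1 hk'.2, Matrix.one_apply, sub_self]
      rw [this, zero_mul]
  · ext i j
    rw [Matrix.mul_apply, Matrix.zero_apply]
    apply Finset.sum_eq_zero
    intro k _
    by_cases hk : k = p0 m ∨ k = p1 m
    · have : ((rhoM F m (pi0 m) * eN F m g' * (rhoM F m (pi0 m))⁻¹).1 - 1) i k = 0 := by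
        rw [Matrix.sub_apply, hBcol i k hk, Matrix.one_apply, sub_self]
      rw [this, zero_mul]
    · have hk' : k ≠ p0 m ∧ k ≠ p1 m := by
        constructor
        · intro h; exact hk (Or.inl h)
        · intro h; exact hk (Or.inr h)
      have : ((eN F m g).1 - 1) k j = 0 := by
        rw [Matrix.sub_apply, hE, MODDJ_row F m g.1 k j hk'.1 hk'.2, Matrix.one_apply, sub_self]
      rw [this, mul_zero]

end Cfsg.Agent.Helper1.SLNP
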