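import Mathlib
import Cfsg.Agent.Helper1.SLNP.Defs

/-!
# S2290 block (C4) piece (MODEN) -- see `tools/helper1_slnp/README.md` and board WANTED of helper1.
-/

set_option autoImplicit false

namespace Cfsg.Agent.Helper1.SLNP

open Matrix Cfsg.Agent.Helper96.StemSLTwo Cfsg.Agent.Helper96.StPres Cfsg.Agent.Helper9.Sp4P
  Cfsg.Agent.Helper1.SL3P Cfsg.Agent.Helper96.StN

universe u v

variable (F : Type u) [Field F] (m : ℕ)

theorem coe_eN
    (hι : ∀ (g : SL3 F) (i j : Fin (m + 4)),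
      (iota3 F m g).1 i j = if h : i.val < 3 ∧ j.val < 3 then g.1 ⟨i.val, h.1⟩ ⟨j.val, h.2⟩
        else if i = j then 1 else 0)
    (g : SL2 F) : (eN F m g).1 = eNMat F m g.1 := by
  ext i j
  rw [show eN F m g = iota3 F m (eA F g) from rfl, hι, coe_eA]
  unfold eNMat
  simp only [Matrix.of_apply]
  obtain ⟨i, hi⟩ := i
  obtain ⟨j, hj⟩ := j
  rcases i with _ | _ | _ | i <;> rcases j with _ | _ | _ | j <;>
    simp [p0, p1, Fin.ext_iff]

end Cfsg.Agent.Helper1.SLNP
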