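import Mathlib
import Cfsg.Agent.Helper1.SLNP.Defs

/-!
# S2290 block (C4) piece (MODFL) -- see `tools/helper1_slnp/README.md` and board WANTED of helper1.
-/

set_option autoImplicit false

namespace Cfsg.Agent.Helper1.SLNP

open Matrix Cfsg.Agent.Helper96.StemSLTwo Cfsg.Agent.Helper96.StPres Cfsg.Agent.Helper9.Sp4P
  Cfsg.Agent.Helper1.SL3P Cfsg.Agent.Helper96.StN

universe u v

variable (F : Type u) [Field F] (m : ℕ)

/-- the action of `σ⁻¹ = σ` on the points -/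
theorem MODFL_sg_inv_apply (i : Fin (m + 4)) :
    ((sg m)⁻¹).1 i = (Equiv.swap (p0 m) (p1 m) * Equiv.swap (p2 m) (p3 m)) i := by
  have h1 : ((sg m)⁻¹).1 = ((sg m).1)⁻¹ := rfl
  have h2 : (sg m).1 = Equiv.swap (p0 m) (p1 m) * Equiv.swap (p2 m) (p3 m) := rfl
  rw [h1, h2, _root_.mul_inv_rev, Equiv.swap_inv, Equiv.swap_inv]
  -- the two swaps commute
  have hd : Equiv.Perm.Disjoint (Equiv.swap (p2 m) (p3 m)) (Equiv.swap (p0 m) (p1 m)) := by
    rw [Equiv.Perm.disjoint_iff_disjoint_support, Equiv.Perm.support_swap (p2_ne_p3 m),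
      Equiv.Perm.support_swap (p0_ne_p1 m)]
    simp only [Finset.disjoint_insert_left, Finset.disjoint_singleton_left, Finset.mem_insert,
      Finset.mem_singleton, not_or]
    exact ⟨⟨(p0_ne_p2 m).symm, (p1_ne_p2 m).symm⟩, ⟨(p0_ne_p3 m).symm, (p1_ne_p3 m).symm⟩⟩
  rw [hd.commute.eq]

theorem MODFL_eq_p0 (i : Fin (m + 4)) : ((sg m)⁻¹).1 i = p0 m ↔ i = p1 m := by
  rw [ MODFL_sg_inv_apply, Equiv.Perm.mul_apply]
  constructor
  · intro h
    have h' := congrArg (Equiv.swap (p0 m) (p1 m)) h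
    rw [Equiv.swap_apply_self, Equiv.swap_apply_left] at h'
    have h'' := congrArg (Equiv.swap (p2 m) (p3 m)) h'
    rw [Equiv.swap_apply_self, Equiv.swap_apply_of_ne_of_ne (p1_ne_p2 m) (p1_ne_p3 m)] at h''
    exact h''
  · intro h
    rw [h, Equiv.swap_apply_of_ne_of_ne (p1_ne_p2 m) (p1_ne_p3 m), Equiv.swap_apply_right]

theorem MODFL_eq_p1 (i : Fin (m + 4)) : ((sg m)⁻¹).1 i = p1 m ↔ i = p0 m := by
  rw [ MODFL_sg_inv_apply, Equiv.Perm.mul_apply]
  constructor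
  · intro h
    have h' := congrArg (Equiv.swap (p0 m) (p1 m)) h
    rw [Equiv.swap_apply_self, Equiv.swap_apply_right] at h'
    have h'' := congrArg (Equiv.swap (p2 m) (p3 m)) h'
    rw [Equiv.swap_apply_self, Equiv.swap_apply_of_ne_of_ne (p0_ne_p2 m) (p0_ne_p3 m)] at h''
    exact h''
  · intro h
    rw [h, Equiv.swap_apply_of_ne_of_ne (p0_ne_p2 m) (p0_ne_p3 m), Equiv.swap_apply_left]

theorem model_fl
    (hE : ∀ g : SL2 F, (eN F m g).1 = eNMat F m g.1)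
    (hcj : ∀ (π : Alt m) (S : SLN m F) (i j : Fin (m + 4)),
      (rhoM F m π * S * (rhoM F m π)⁻¹).1 i j = S.1 ((π⁻¹).1 i) ((π⁻¹).1 j)) :
    ∀ g : SL2 F, rhoM F m (sg m) * eN F m g * (rhoM F m (sg m))⁻¹ = eN F m (flip g) := by
  intro g
  apply Subtype.ext
  ext i j
  rw [hcj, hE, hE]
  have hinj : ((sg m)⁻¹).1 i = ((sg m)⁻¹).1 j ↔ i = j := (((sg m)⁻¹).1).injective.eq_iff
  simp only [eNMat, Matrix.of_apply, MODFL_eq_p0, MODFL_eq_p1, hinj, coe_flip]
  have h01 := p0_ne_p1 m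
  by_cases hi0 : i = p0 m
  · by_cases hj0 : j = p0 m
    · simp [hi0, hj0, h01]
    · by_cases hj1 : j = p1 m
      · simp [hi0, hj1, h01, h01.symm]
      · simp [hi0, hj0, hj1, h01]
  · by_cases hi1 : i = p1 m
    · by_cases hj0 : j = p0 m
      · simp [hi1, hj0, h01, h01.symm]
      · by_cases hj1 : j = p1 m
        · simp [hi1, hj1, h01.symm]
        · simp [hi1, hj0, hj1, h01.symm]
    · simp [hi0, hi1]

end Cfsg.Agent.Helper1.SLNP
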