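import Mathlib
import Cfsg.Agent.Helper1.SLNP.Defs

/-!
# S2290 block (C4) piece (MODI3E) -- see `tools/helper1_slnp/README.md` and board WANTED of helper1.
(piece by helper53)
-/

set_option autoImplicit false

namespace Cfsg.Agent.Helper1.SLNP

open Matrix Cfsg.Agent.Helper96.StemSLTwo Cfsg.Agent.Helper96.StPres Cfsg.Agent.Helper9.Sp4P
  Cfsg.Agent.Helper1.SL3P Cfsg.Agent.Helper96.StN

universe u v

variable (F : Type u) [Field F] (m : ℕ)

theorem MODI3E_idx3_inl (a : Fin 3) : ((idx3 m (Sum.inl a) : Fin (m + 4)) : ℕ) = a.val := by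
  simp [idx3]

theorem MODI3E_idx3_inr (b : Fin (m + 1)) : ((idx3 m (Sum.inr b) : Fin (m + 4)) : ℕ) = 3 + b.val := by
  simp [idx3]
  omega

theorem iota3_apply (g : SL3 F) (i j : Fin (m + 4)) :
    (iota3 F m g).1 i j = if h : i.val < 3 ∧ j.val < 3 then g.1 ⟨i.val, h.1⟩ ⟨j.val, h.2⟩
      else if i = j then 1 else 0 := by
  show i3Mat F m g.1 i j = _
  obtain ⟨i', rfl⟩ := (idx3 m).surjective i
  obtain ⟨j', rfl⟩ := (idx3 m).surjective j
  unfold i3Mat
  rw [Matrix.reindex_apply, Matrix.submatrix_apply, Equiv.symm_apply_apply, Equiv.symm_apply_apply]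
  rcases i' with a | b <;> rcases j' with a' | b'
  · have h : ((idx3 m (Sum.inl a) : Fin (m + 4)) : ℕ) < 3 ∧
        ((idx3 m (Sum.inl a') : Fin (m + 4)) : ℕ) < 3 := by
      rw [ MODI3E_idx3_inl, MODI3E_idx3_inl]
      exact ⟨a.2, a'.2⟩
    rw [dif_pos h, Matrix.fromBlocks_apply₁₁]
    congr 1
    all_goals first
      | exact Fin.ext (MODI3E_idx3_inl m a).symm
      | exact Fin.ext (MODI3E_idx3_inl m a').symm
  · have h : ¬ (((idx3 m (Sum.inl a) : Fin (m + 4)) : ℕ) < 3 ∧
        ((idx3 m (Sum.inr b') : Fin (m + 4)) : ℕ) < 3) := by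
      rw [ MODI3E_idx3_inr]
      omega
    have hne : idx3 m (Sum.inl a) ≠ idx3 m (Sum.inr b') := by
      intro e
      have := (idx3 m).injective e
      cases this
    rw [dif_neg h, if_neg hne, Matrix.fromBlocks_apply₁₂, Matrix.zero_apply]
  · have h : ¬ (((idx3 m (Sum.inr b) : Fin (m + 4)) : ℕ) < 3 ∧
        ((idx3 m (Sum.inl a') : Fin (m + 4)) : ℕ) < 3) := by
      rw [ MODI3E_idx3_inr]
      omega
    have hne : idx3 m (Sum.inr b) ≠ idx3 m (Sum.inl a') := by
      intro e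
      have := (idx3 m).injective e
      cases this
    rw [dif_neg h, if_neg hne, Matrix.fromBlocks_apply₂₁, Matrix.zero_apply]
  · have h : ¬ (((idx3 m (Sum.inr b) : Fin (m + 4)) : ℕ) < 3 ∧
        ((idx3 m (Sum.inr b') : Fin (m + 4)) : ℕ) < 3) := by
      rw [ MODI3E_idx3_inr]
      omega
    rw [dif_neg h, Matrix.fromBlocks_apply₂₂, Matrix.one_apply]
    by_cases hbb : b = b'
    · subst hbb
      rw [if_pos rfl, if_pos rfl]
    · have hne : idx3 m (Sum.inr b) ≠ idx3 m (Sum.inr b') := by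
        intro e
        have := (idx3 m).injective e
        exact hbb (Sum.inr.inj this)
      rw [if_neg hbb, if_neg hne]

end Cfsg.Agent.Helper1.SLNP
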