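import Mathlib
import Cfsg.Agent.Helper1.SLNP.Defs

/-!
# S2290 block (C4) piece (MODST) -- see `tools/helper1_slnp/README.md` and board WANTED of helper1.
-/

set_option autoImplicit false

namespace Cfsg.Agent.Helper1.SLNP

open Matrix Cfsg.Agent.Helper96.StemSLTwo Cfsg.Agent.Helper96.StPres Cfsg.Agent.Helper9.Sp4P
  Cfsg.Agent.Helper1.SL3P Cfsg.Agent.Helper96.StN

universe u v

variable (F : Type u) [Field F] (m : ℕ)

theorem model_st
    (hE : ∀ g : SL2 F, (eN F m g).1 = eNMat F m g.1)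
    (hcj : ∀ (π : Alt m) (S : SLN m F) (i j : Fin (m + 4)),
      (rhoM F m π * S * (rhoM F m π)⁻¹).1 i j = S.1 ((π⁻¹).1 i) ((π⁻¹).1 j)) :
    ∀ π : Alt m, π.1 (p0 m) = p0 m → π.1 (p1 m) = p1 m → ∀ g : SL2 F,
      Commute (rhoM F m π) (eN F m g) := by
  intro π h0 h1 g
  have e0 : ∀ k : Fin (m + 4), (π⁻¹).1 k = p0 m ↔ k = p0 m := by
    intro k
    have : (π⁻¹).1 = (π.1)⁻¹ := rfl
    rw [this, Equiv.Perm.inv_eq_iff_eq, h0]
  have e1 : ∀ k : Fin (m + 4), (π⁻¹).1 k = p1 m ↔ k = p1 m := by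
    intro k
    have : (π⁻¹).1 = (π.1)⁻¹ := rfl
    rw [this, Equiv.Perm.inv_eq_iff_eq, h1]
  have key : rhoM F m π * eN F m g * (rhoM F m π)⁻¹ = eN F m g := by
    apply Subtype.ext
    ext i j
    rw [hcj, hE]
    simp only [eNMat, Matrix.of_apply, e0, e1, (π⁻¹).1.injective.eq_iff]
  show rhoM F m π * eN F m g = eN F m g * rhoM F m π
  calc rhoM F m π * eN F m g = (rhoM F m π * eN F m g * (rhoM F m π)⁻¹) * rhoM F m π := by group
    _ = eN F m g * rhoM F m π := by rw [key]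

end Cfsg.Agent.Helper1.SLNP
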