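import Mathlib
import Cfsg.Agent.Helper1.SLNP.Defs
import Cfsg.Agent.Helper9.Sp4P.P_SL2F
import Cfsg.Agent.Helper9.Sp4P.P_CW
import Cfsg.Agent.Helper1.SL3P.P_GEN

/-!
# S2290 block (C4) piece (NATN) -- see `tools/helper1_slnp/README.md` and board WANTED of helper1.
-/

set_option autoImplicit false

namespace Cfsg.Agent.Helper1.SLNP

open Matrix Cfsg.Agent.Helper96.StemSLTwo Cfsg.Agent.Helper96.StPres Cfsg.Agent.Helper9.Sp4P
  Cfsg.Agent.Helper1.SL3P Cfsg.Agent.Helper96.StN

universe u v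

variable {K : Type u} [Field K] {D : Type v} [Group D] {m : ℕ}

theorem map_XN {E : Type*} [Group E] (φ : D →* E) (a : SL2 K →* D) (ρ : Alt m →* D)
    (i j : Fin (m + 4)) (t : K) :
    φ (XN a ρ i j t) = XN (φ.comp a) (φ.comp ρ) i j t := by
  unfold XN
  split_ifs with h
  · exact map_one φ
  · rw [map_mul, map_mul, map_inv]
    rfl

end Cfsg.Agent.Helper1.SLNP
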