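import Mathlib
import Cfsg.Agent.Helper1.SLNP.MainA
import Cfsg.Agent.Helper1.SLNP.P_NATN
import Cfsg.Agent.Helper1.SLNP.P_CRMAP
import Cfsg.Agent.Helper1.SLNP.P_CWG
import Cfsg.Agent.Helper1.SLNP.P_GG
import Cfsg.Agent.Helper1.SLNP.P_MODI3E
import Cfsg.Agent.Helper1.SLNP.P_MODEN
import Cfsg.Agent.Helper1.SLNP.P_MODC
import Cfsg.Agent.Helper1.SLNP.P_MODCJ
import Cfsg.Agent.Helper1.SLNP.P_MODST
import Cfsg.Agent.Helper1.SLNP.P_MODFL
import Cfsg.Agent.Helper1.SLNP.P_MODDJ
import Cfsg.Agent.Helper1.SLNP.P_MODTV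
import Cfsg.Agent.Helper1.SL3P.Main
import Cfsg.Agent.Helper9.AltTwoGen

set_option autoImplicit false

namespace Cfsg.Agent.Helper1.SLNP

open Matrix Cfsg.Agent.Helper96.StemSLTwo Cfsg.Agent.Helper96.StPres Cfsg.Agent.Helper9.Sp4P
  Cfsg.Agent.Helper1.SL3P Cfsg.Agent.Helper96.StN

universe u v

/-! ## naturality and words -/

section nat

variable {K : Type u} [Field K] {D : Type v} [Group D] {m : ℕ}

end nat

/-! ## the model -/

section model

variable (F : Type u) [Field F] (m : ℕ)

/-! ### assembly of the model -/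

theorem glue_model : Glue (eN F m) (rhoM F m) :=
  ⟨model_st F m (coe_eN F m (iota3_apply F m)) (rhoM_conj F m),
   model_fl F m (coe_eN F m (iota3_apply F m)) (rhoM_conj F m),
   model_dj F m (coe_eN F m (iota3_apply F m)) (rhoM_conj F m)⟩

theorem XN_model (i j : Fin (m + 4)) (hij : i ≠ j) (t : F) :
    XN (eN F m) (rhoM F m) i j t = Matrix.SpecialLinearGroup.transvection hij t := by
  obtain ⟨π, h0, h1⟩ := exists_alt_two m i j hij
  rw [← hxeq_of_glue (glue_model F m) i j hij π h0 h1 t]
  exact model_tv F m (coe_eN F m (iota3_apply F m)) (rhoM_conj F m) π i j hij h0 h1 t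

theorem crossB_modelN (z : Fˣ) : CrossB (eN F m) (rhoM F m (c012 m)) z := by
  rw [rhoM_c012 F m (iota3_apply F m)]
  exact (cross_map (iota3 F m) (eA F) (cM F) z).1 (crossB_model F z)

theorem crossE_modelN (z : Fˣ) : CrossE (eN F m) (rhoM F m (c012 m)) z := by
  rw [rhoM_c012 F m (iota3_apply F m)]
  exact (cross_map (iota3 F m) (eA F) (cM F) z).2 (crossE_model F z)

end model

/-! ## the presented group -/

section pres

variable {F : Type u} [Field F] {m k : ℕ} (d : SL2Pres F) (relsA : Finset (FreeGroup (Fin k)))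
  (eAlt : PresentedGroup (↑relsA : Set (FreeGroup (Fin k))) ≃* Alt m)
  (cw : List (FreeGroup (Fin (3 + k))))

/-- the generators of `SL₂` among all generators -/
def j3 (k : ℕ) : Fin 3 → Fin (3 + k) := Fin.castAdd k

/-- the generators of `A_n` among all generators -/
def jA (k : ℕ) : Fin k → Fin (3 + k) := Fin.natAdd 3

/-- the relators of `SL_n(F)`: those of `SL₂(F)`, those of `A_n` and a list of cross relators -/
noncomputable def relsN : Finset (FreeGroup (Fin (3 + k))) :=
  d.rels.image (FreeGroup.map (j3 k)) ∪ relsA.image (FreeGroup.map (jA k)) ∪ cw.toFinset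

theorem card_relsN : (relsN d relsA cw).card ≤ d.rels.card + relsA.card + cw.length := by
  have h1 := Finset.card_image_le (s := d.rels) (f := FreeGroup.map (j3 k))
  have h2 := Finset.card_image_le (s := relsA) (f := FreeGroup.map (jA k))
  have h3 : cw.toFinset.card ≤ cw.length := List.toFinset_card_le _
  have h4 := Finset.card_union_le (d.rels.image (FreeGroup.map (j3 k)))
    (relsA.image (FreeGroup.map (jA k)))
  have h5 := Finset.card_union_le (d.rels.image (FreeGroup.map (j3 k)) ∪
    relsA.image (FreeGroup.map (jA k))) cw.toFinset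
  unfold relsN
  omega

theorem map_j3_mem (r : FreeGroup (Fin 3)) (hr : r ∈ (↑d.rels : Set (FreeGroup (Fin 3)))) :
    FreeGroup.map (j3 k) r ∈ (↑(relsN d relsA cw) : Set (FreeGroup (Fin (3 + k)))) := by
  rw [Finset.mem_coe] at hr ⊢
  unfold relsN
  exact Finset.mem_union_left _ (Finset.mem_union_left _ (Finset.mem_image_of_mem _ hr))

theorem map_jA_mem (r : FreeGroup (Fin k)) (hr : r ∈ (↑relsA : Set (FreeGroup (Fin k)))) :
    FreeGroup.map (jA k) r ∈ (↑(relsN d relsA cw) : Set (FreeGroup (Fin (3 + k)))) := by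
  rw [Finset.mem_coe] at hr ⊢
  unfold relsN
  exact Finset.mem_union_left _ (Finset.mem_union_right _ (Finset.mem_image_of_mem _ hr))

theorem cwN_mem (r : FreeGroup (Fin (3 + k))) (hr : r ∈ cw) :
    r ∈ (↑(relsN d relsA cw) : Set (FreeGroup (Fin (3 + k)))) := by
  rw [Finset.mem_coe]
  unfold relsN
  exact Finset.mem_union_right _ (List.mem_toFinset.2 hr)

/-- the presented group -/
abbrev PN := PresentedGroup (↑(relsN d relsA cw) : Set (FreeGroup (Fin (3 + k))))

/-- the homomorphism of presented groups induced by the inclusion of the `SL₂` generators -/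
noncomputable def lamS : PresentedGroup (↑d.rels : Set (FreeGroup (Fin 3))) →* PN d relsA cw :=
  Classical.choose (exists_presented_map (j3 k) _ _ (map_j3_mem d relsA cw))

theorem lamS_mk (w : FreeGroup (Fin 3)) :
    lamS d relsA cw (PresentedGroup.mk _ w) = PresentedGroup.mk _ (FreeGroup.map (j3 k) w) :=
  Classical.choose_spec (exists_presented_map (j3 k) _ _ (map_j3_mem d relsA cw)) w

/-- the homomorphism of presented groups induced by the inclusion of the `A_n` generators -/
noncomputable def lamA : PresentedGroup (↑relsA : Set (FreeGroup (Fin k))) →* PN d relsA cw :=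
  Classical.choose (exists_presented_map (jA k) _ _ (map_jA_mem d relsA cw))

theorem lamA_mk (w : FreeGroup (Fin k)) :
    lamA d relsA cw (PresentedGroup.mk _ w) = PresentedGroup.mk _ (FreeGroup.map (jA k) w) :=
  Classical.choose_spec (exists_presented_map (jA k) _ _ (map_jA_mem d relsA cw)) w

/-- the homomorphism from `SL₂(F)` -/
noncomputable def homS : SL2 F →* PN d relsA cw :=
  (lamS d relsA cw).comp (MulEquiv.ofBijective d.pi d.bij).symm.toMonoidHom

/-- the homomorphism from `A_n` -/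
noncomputable def homR : Alt m →* PN d relsA cw :=
  (lamA d relsA cw).comp eAlt.symm.toMonoidHom

theorem homS_pi (w : FreeGroup (Fin 3)) :
    homS d relsA cw (d.pi (PresentedGroup.mk _ w)) =
      PresentedGroup.mk _ (FreeGroup.map (j3 k) w) := by
  unfold homS
  rw [MonoidHom.comp_apply]
  have e : (MulEquiv.ofBijective d.pi d.bij).symm.toMonoidHom (d.pi (PresentedGroup.mk _ w)) =
      PresentedGroup.mk _ w := by
    change (MulEquiv.ofBijective d.pi d.bij).symm (d.pi (PresentedGroup.mk _ w)) = _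
    rw [MulEquiv.symm_apply_eq]
    rfl
  rw [e, lamS_mk]

theorem homR_e (w : FreeGroup (Fin k)) :
    homR d relsA eAlt cw (eAlt (PresentedGroup.mk _ w)) =
      PresentedGroup.mk _ (FreeGroup.map (jA k) w) := by
  unfold homR
  rw [MonoidHom.comp_apply]
  have e : eAlt.symm.toMonoidHom (eAlt (PresentedGroup.mk _ w)) = PresentedGroup.mk _ w := by
    change eAlt.symm (eAlt (PresentedGroup.mk _ w)) = _
    rw [MulEquiv.symm_apply_apply]
  rw [e, lamA_mk]

/-- a word for an even permutation -/
noncomputable def wd (π : Alt m) : FreeGroup (Fin k) :=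
  Classical.choose (QuotientGroup.mk_surjective (eAlt.symm π))

theorem eAlt_wd (π : Alt m) : eAlt (PresentedGroup.mk _ (wd relsA eAlt π)) = π := by
  have h := Classical.choose_spec (QuotientGroup.mk_surjective (eAlt.symm π))
  exact (MulEquiv.symm_apply_eq eAlt).1 h.symm |>.symm

theorem homR_wd (π : Alt m) :
    homR d relsA eAlt cw π = PresentedGroup.mk _ (FreeGroup.map (jA k) (wd relsA eAlt π)) := by
  rw [← homR_e, eAlt_wd]

/-- the images of the generators in `SL_n(F)` -/
noncomputable def gensN : Fin (3 + k) → SLN m F :=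
  Fin.addCases (fun i => eN F m (d.pi (PresentedGroup.of i)))
    (fun i => rhoM F m (eAlt (PresentedGroup.of i)))

theorem gensN_j3 (i : Fin 3) :
    gensN d relsA eAlt (j3 k i) = eN F m (d.pi (PresentedGroup.of i)) := by
  unfold gensN j3
  rw [Fin.addCases_left]

theorem gensN_jA (i : Fin k) :
    gensN d relsA eAlt (jA k i) = rhoM F m (eAlt (PresentedGroup.of i)) := by
  unfold gensN jA
  rw [Fin.addCases_right]

theorem lift_map_j3 (w : FreeGroup (Fin 3)) :
    FreeGroup.lift (gensN d relsA eAlt) (FreeGroup.map (j3 k) w) =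
      eN F m (d.pi (PresentedGroup.mk _ w)) := by
  have h : (FreeGroup.lift (gensN d relsA eAlt)).comp (FreeGroup.map (j3 k)) =
      ((eN F m).comp d.pi).comp (PresentedGroup.mk _) := by
    apply FreeGroup.ext_hom
    intro i
    simp only [MonoidHom.comp_apply, FreeGroup.map.of, FreeGroup.lift_apply_of, gensN_j3]
    rfl
  exact DFunLike.congr_fun h w

theorem lift_map_jA (w : FreeGroup (Fin k)) :
    FreeGroup.lift (gensN d relsA eAlt) (FreeGroup.map (jA k) w) =
      rhoM F m (eAlt (PresentedGroup.mk _ w)) := by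
  have h : (FreeGroup.lift (gensN d relsA eAlt)).comp (FreeGroup.map (jA k)) =
      ((rhoM F m).comp eAlt.toMonoidHom).comp (PresentedGroup.mk _) := by
    apply FreeGroup.ext_hom
    intro i
    simp only [MonoidHom.comp_apply, FreeGroup.map.of, FreeGroup.lift_apply_of, gensN_jA]
    rfl
  exact DFunLike.congr_fun h w

theorem lift_wd (π : Alt m) :
    FreeGroup.lift (gensN d relsA eAlt) (FreeGroup.map (jA k) (wd relsA eAlt π)) =
      rhoM F m π := by
  rw [lift_map_jA, eAlt_wd]

theorem gensN_rels (hmodel : ∀ r ∈ cw, FreeGroup.lift (gensN d relsA eAlt) r = 1) :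
    ∀ r ∈ (↑(relsN d relsA cw) : Set (FreeGroup (Fin (3 + k)))),
      FreeGroup.lift (gensN d relsA eAlt) r = 1 := by
  intro r hr
  rw [Finset.mem_coe, relsN, Finset.mem_union, Finset.mem_union, Finset.mem_image,
    Finset.mem_image, List.mem_toFinset] at hr
  rcases hr with (⟨r', hr', rfl⟩ | ⟨r', hr', rfl⟩) | hr
  · rw [lift_map_j3, PresentedGroup.one_of_mem (Finset.mem_coe.2 hr'), map_one, map_one]
  · rw [lift_map_jA, PresentedGroup.one_of_mem (Finset.mem_coe.2 hr'), map_one, map_one]
  · exact hmodel r hr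

/-- the homomorphism to `SL_n(F)` -/
noncomputable def phiN (hmodel : ∀ r ∈ cw, FreeGroup.lift (gensN d relsA eAlt) r = 1) :
    PN d relsA cw →* SLN m F :=
  PresentedGroup.toGroup (gensN_rels d relsA eAlt cw hmodel)

theorem phiN_mk (hmodel : ∀ r ∈ cw, FreeGroup.lift (gensN d relsA eAlt) r = 1)
    (w : FreeGroup (Fin (3 + k))) :
    phiN d relsA eAlt cw hmodel (PresentedGroup.mk _ w) =
      FreeGroup.lift (gensN d relsA eAlt) w := by
  have h : (phiN d relsA eAlt cw hmodel).comp (PresentedGroup.mk _) =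
      FreeGroup.lift (gensN d relsA eAlt) := by
    apply FreeGroup.ext_hom
    intro i
    rw [MonoidHom.comp_apply, FreeGroup.lift_apply_of]
    exact PresentedGroup.toGroup.of _
  exact DFunLike.congr_fun h w

theorem phiN_homS (hmodel : ∀ r ∈ cw, FreeGroup.lift (gensN d relsA eAlt) r = 1) :
    (phiN d relsA eAlt cw hmodel).comp (homS d relsA cw) = eN F m := by
  apply MonoidHom.ext
  intro g
  obtain ⟨x, rfl⟩ := d.bij.2 g
  obtain ⟨w, rfl⟩ := QuotientGroup.mk_surjective x
  rw [MonoidHom.comp_apply]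
  change phiN d relsA eAlt cw hmodel (homS d relsA cw (d.pi (PresentedGroup.mk _ w))) = _
  rw [homS_pi, phiN_mk, lift_map_j3]
  rfl

theorem phiN_homR (hmodel : ∀ r ∈ cw, FreeGroup.lift (gensN d relsA eAlt) r = 1) :
    (phiN d relsA eAlt cw hmodel).comp (homR d relsA eAlt cw) = rhoM F m := by
  apply MonoidHom.ext
  intro π
  rw [MonoidHom.comp_apply, homR_wd, phiN_mk, lift_wd]

theorem phiN_XN (hmodel : ∀ r ∈ cw, FreeGroup.lift (gensN d relsA eAlt) r = 1)
    (i j : Fin (m + 4)) (h : i ≠ j) (t : F) :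
    phiN d relsA eAlt cw hmodel (XN (homS d relsA cw) (homR d relsA eAlt cw) i j t) =
      Matrix.SpecialLinearGroup.transvection h t := by
  rw [map_XN, phiN_homS, phiN_homR]
  exact XN_model F m i j h t

/-- the words `x(1)`, `h(z)`, `w(1)`, `x(z⁻¹)` in the presented group -/
theorem homS_words :
    xe (homS d relsA cw) 1 = PresentedGroup.mk _ (FreeGroup.map (j3 k) d.uw) ∧
    he (homS d relsA cw) d.z = PresentedGroup.mk _ (FreeGroup.map (j3 k) d.hw) ∧
    we (homS d relsA cw) = PresentedGroup.mk _ (FreeGroup.map (j3 k) d.ww) ∧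
    xe (homS d relsA cw) ((d.z : F)⁻¹) = PresentedGroup.mk _ (FreeGroup.map (j3 k) d.gw) := by
  refine ⟨?_, ?_, ?_, ?_⟩
  · unfold xe; rw [← d.pi_u, homS_pi]
  · unfold he; rw [← d.pi_h, homS_pi]
  · unfold we; rw [← d.pi_w, homS_pi]
  · unfold xe; rw [← d.pi_g, homS_pi]

theorem htop_P : (homS d relsA cw).range ⊔ (homR d relsA eAlt cw).range = ⊤ := by
  rw [eq_top_iff, ← PresentedGroup.closure_range_of, Subgroup.closure_le]
  rintro _ ⟨i, rfl⟩
  refine Fin.addCases (fun i => ?_) (fun i => ?_) i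
  · apply Subgroup.mem_sup_left
    refine ⟨d.pi (PresentedGroup.of i), ?_⟩
    change homS d relsA cw (d.pi (PresentedGroup.mk _ (FreeGroup.of i))) = _
    rw [homS_pi, FreeGroup.map.of]
    rfl
  · apply Subgroup.mem_sup_right
    refine ⟨eAlt (PresentedGroup.of i), ?_⟩
    change homR d relsA eAlt cw (eAlt (PresentedGroup.mk _ (FreeGroup.of i))) = _
    rw [homR_e, FreeGroup.map.of]
    rfl

/-- the six basic cross relators -/
noncomputable def cwBN : List (FreeGroup (Fin (3 + k))) :=
  wordsB (FreeGroup.map (j3 k) d.uw) (FreeGroup.map (j3 k) d.hw) (FreeGroup.map (j3 k) d.ww)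
    (FreeGroup.map (j3 k) d.gw) (FreeGroup.map (jA k) (wd relsA eAlt (c012 m)))

/-- the three extra cross relators -/
noncomputable def cwEN : List (FreeGroup (Fin (3 + k))) :=
  wordsE (FreeGroup.map (j3 k) d.uw) (FreeGroup.map (j3 k) d.hw) (FreeGroup.map (j3 k) d.ww)
    (FreeGroup.map (jA k) (wd relsA eAlt (c012 m)))

/-- the eighteen gluing relators -/
noncomputable def cwGN (s1 s2 : Alt m) : List (FreeGroup (Fin (3 + k))) :=
  wordsG (FreeGroup.map (j3 k) d.uw) (FreeGroup.map (j3 k) d.hw) (FreeGroup.map (j3 k) d.ww)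
    (FreeGroup.map (jA k) (wd relsA eAlt s1)) (FreeGroup.map (jA k) (wd relsA eAlt s2))
    (FreeGroup.map (jA k) (wd relsA eAlt (sg m))) (FreeGroup.map (jA k) (wd relsA eAlt (pi0 m)))

theorem model_cwBN : ∀ r ∈ cwBN d relsA eAlt, FreeGroup.lift (gensN d relsA eAlt) r = 1 := by
  intro r hr
  have h1 : FreeGroup.lift (gensN d relsA eAlt) r ∈
      (cwBN d relsA eAlt).map (FreeGroup.lift (gensN d relsA eAlt)) := List.mem_map_of_mem hr
  rw [cwBN, map_wordsB, lift_map_j3, lift_map_j3, lift_map_j3, lift_map_j3, lift_wd,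
    d.pi_u, d.pi_h, d.pi_w, d.pi_g] at h1
  exact (crossB_iff_words (eN F m) (rhoM F m (c012 m)) d.z).1 (crossB_modelN F m d.z) _ h1

theorem model_cwEN : ∀ r ∈ cwEN d relsA eAlt, FreeGroup.lift (gensN d relsA eAlt) r = 1 := by
  intro r hr
  have h1 : FreeGroup.lift (gensN d relsA eAlt) r ∈
      (cwEN d relsA eAlt).map (FreeGroup.lift (gensN d relsA eAlt)) := List.mem_map_of_mem hr
  rw [cwEN, map_wordsE, lift_map_j3, lift_map_j3, lift_map_j3, lift_wd,
    d.pi_u, d.pi_h, d.pi_w] at h1
  exact (crossE_iff_words (eN F m) (rhoM F m (c012 m)) d.z).1 (crossE_modelN F m d.z) _ h1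

theorem model_cwGN (s1 s2 : Alt m) (h10 : s1.1 (p0 m) = p0 m) (h11 : s1.1 (p1 m) = p1 m)
    (h20 : s2.1 (p0 m) = p0 m) (h21 : s2.1 (p1 m) = p1 m) :
    ∀ r ∈ cwGN d relsA eAlt s1 s2, FreeGroup.lift (gensN d relsA eAlt) r = 1 := by
  intro r hr
  have h1 : FreeGroup.lift (gensN d relsA eAlt) r ∈
      (cwGN d relsA eAlt s1 s2).map (FreeGroup.lift (gensN d relsA eAlt)) :=
    List.mem_map_of_mem hr
  rw [cwGN, map_wordsG, lift_map_j3, lift_map_j3, lift_map_j3, lift_wd, lift_wd, lift_wd, lift_wd,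
    d.pi_u, d.pi_h, d.pi_w] at h1
  exact (glueGen_iff_words (eN F m) (rhoM F m) d.z s1 s2).1
    (glueGen_of_glue d.z (flip_values d.z) h10 h11 h20 h21 (glue_model F m)) _ h1

theorem crossB_PN (hsub : ∀ r ∈ cwBN d relsA eAlt, r ∈ cw) :
    CrossB (homS d relsA cw) (homR d relsA eAlt cw (c012 m)) d.z := by
  rw [crossB_iff_words]
  intro w hw
  obtain ⟨e1, e2, e3, e4⟩ := homS_words d relsA cw
  rw [e1, e2, e3, e4, homR_wd,
    ← map_wordsB (PresentedGroup.mk (↑(relsN d relsA cw) : Set (FreeGroup (Fin (3 + k)))))] at hw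
  obtain ⟨r, hr, rfl⟩ := List.mem_map.1 hw
  exact PresentedGroup.one_of_mem (cwN_mem d relsA cw r (hsub r hr))

theorem crossE_PN (hsub : ∀ r ∈ cwEN d relsA eAlt, r ∈ cw) :
    CrossE (homS d relsA cw) (homR d relsA eAlt cw (c012 m)) d.z := by
  rw [crossE_iff_words]
  intro w hw
  obtain ⟨e1, e2, e3, -⟩ := homS_words d relsA cw
  rw [e1, e2, e3, homR_wd,
    ← map_wordsE (PresentedGroup.mk (↑(relsN d relsA cw) : Set (FreeGroup (Fin (3 + k)))))] at hw
  obtain ⟨r, hr, rfl⟩ := List.mem_map.1 hw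
  exact PresentedGroup.one_of_mem (cwN_mem d relsA cw r (hsub r hr))

theorem glueGen_PN (s1 s2 : Alt m) (hsub : ∀ r ∈ cwGN d relsA eAlt s1 s2, r ∈ cw) :
    GlueGen (homS d relsA cw) (homR d relsA eAlt cw) d.z s1 s2 := by
  rw [glueGen_iff_words]
  intro w hw
  obtain ⟨e1, e2, e3, -⟩ := homS_words d relsA cw
  rw [e1, e2, e3, homR_wd, homR_wd, homR_wd, homR_wd,
    ← map_wordsG (PresentedGroup.mk (↑(relsN d relsA cw) : Set (FreeGroup (Fin (3 + k)))))] at hw
  obtain ⟨r, hr, rfl⟩ := List.mem_map.1 hw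
  exact PresentedGroup.one_of_mem (cwN_mem d relsA cw r (hsub r hr))

theorem phiN_bijective [Fintype F] (hmodel : ∀ r ∈ cw, FreeGroup.lift (gensN d relsA eAlt) r = 1)
    (hG : Glue (homS d relsA cw) (homR d relsA eAlt cw))
    (hB : CrossB (homS d relsA cw) (homR d relsA eAlt cw (c012 m)) d.z)
    (h3 : StRel (X3 (homS d relsA cw) (homR d relsA eAlt cw (c012 m)))) :
    Function.Bijective (phiN d relsA eAlt cw hmodel) := by
  refine ⟨Cfsg.Agent.Helper96.StN.phi_injective (by omega) (stRel_XN_of_glue hG h3)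
    (gen_XN_of_glue hG hB (htop_P d relsA eAlt cw))
    (phiN d relsA eAlt cw hmodel) (phiN_XN d relsA eAlt cw hmodel), ?_⟩
  rw [← MonoidHom.range_eq_top, eq_top_iff,
    ← Cfsg.Agent.Helper5.closure_transvection_eq_top (ι := Fin (m + 4)) (F := F),
    Subgroup.closure_le]
  rintro _ ⟨i, j, hij, t, rfl⟩
  exact ⟨XN (homS d relsA cw) (homR d relsA eAlt cw) i j t,
    phiN_XN d relsA eAlt cw hmodel i j hij t⟩

end pres

/-- **block (C4) of S2290**: a presentation of `SL_{m+4}(F)` from any presentation of `A_{m+4}`,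
with `3` more generators and at most `39` more relators -/
theorem sln_presentation_of_alt' {F : Type u} [Field F] [Fintype F] (m k : ℕ)
    (h2 : ∀ (α : Type) [Fintype α] [DecidableEq α],
      ∃ g1 g2 : alternatingGroup α, Subgroup.closure {g1, g2} = ⊤)
    (relsA : Finset (FreeGroup (Fin k)))
    (hA : Nonempty (PresentedGroup (↑relsA : Set (FreeGroup (Fin k))) ≃*
      alternatingGroup (Fin (m + 4)))) :
    ∃ rels : Finset (FreeGroup (Fin (3 + k))), rels.card ≤ relsA.card + 39 ∧
      Nonempty (PresentedGroup (↑rels : Set (FreeGroup (Fin (3 + k)))) ≃*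
        Matrix.SpecialLinearGroup (Fin (m + 4)) F) := by
  obtain ⟨eAlt⟩ := hA
  obtain ⟨d, hd⟩ := exists_sl2Pres F
  obtain ⟨s1, s2, h10, h11, h20, h21, hs⟩ := exists_stab_gens m h2
  by_cases h4 : Fintype.card F = 4
  · let cw := cwBN d relsA eAlt ++ cwEN d relsA eAlt ++ cwGN d relsA eAlt s1 s2
    have hmodel : ∀ r ∈ cw, FreeGroup.lift (gensN d relsA eAlt) r = 1 := by
      intro r hr
      rcases List.mem_append.1 hr with h | h
      · rcases List.mem_append.1 h with h | h
        · exact model_cwBN d relsA eAlt r h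
        · exact model_cwEN d relsA eAlt r h
      · exact model_cwGN d relsA eAlt s1 s2 h10 h11 h20 h21 r h
    have hB : CrossB (homS d relsA cw) (homR d relsA eAlt cw (c012 m)) d.z :=
      crossB_PN d relsA eAlt cw
        (fun r hr => List.mem_append_left _ (List.mem_append_left _ hr))
    have hE : CrossE (homS d relsA cw) (homR d relsA eAlt cw (c012 m)) d.z :=
      crossE_PN d relsA eAlt cw
        (fun r hr => List.mem_append_left _ (List.mem_append_right _ hr))
    have hG : Glue (homS d relsA cw) (homR d relsA eAlt cw) :=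
      glue_of_gen d.hz hs (glueGen_PN d relsA eAlt cw s1 s2
        (fun r hr => List.mem_append_right _ hr))
    refine ⟨relsN d relsA cw, ?_, ⟨MulEquiv.ofBijective (phiN d relsA eAlt cw hmodel)
      (phiN_bijective d relsA eAlt cw hmodel hG hB (stRel_of_crossB_four d.hz h4 hB hE))⟩⟩
    have h1 := card_relsN d relsA cw
    have h3 : cw.length = 27 := by
      simp only [cw, List.length_append, cwBN, cwEN, cwGN, length_wordsB, length_wordsE,
        length_wordsG]
    omega
  · let cw := cwBN d relsA eAlt ++ cwGN d relsA eAlt s1 s2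
    have hmodel : ∀ r ∈ cw, FreeGroup.lift (gensN d relsA eAlt) r = 1 := by
      intro r hr
      rcases List.mem_append.1 hr with h | h
      · exact model_cwBN d relsA eAlt r h
      · exact model_cwGN d relsA eAlt s1 s2 h10 h11 h20 h21 r h
    have hB : CrossB (homS d relsA cw) (homR d relsA eAlt cw (c012 m)) d.z :=
      crossB_PN d relsA eAlt cw (fun r hr => List.mem_append_left _ hr)
    have hG : Glue (homS d relsA cw) (homR d relsA eAlt cw) :=
      glue_of_gen d.hz hs (glueGen_PN d relsA eAlt cw s1 s2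
        (fun r hr => List.mem_append_right _ hr))
    refine ⟨relsN d relsA cw, ?_, ⟨MulEquiv.ofBijective (phiN d relsA eAlt cw hmodel)
      (phiN_bijective d relsA eAlt cw hmodel hG hB (stRel_of_crossB d.hz h4 hB))⟩⟩
    have h1 := card_relsN d relsA cw
    have h3 : cw.length = 24 := by
      simp only [cw, List.length_append, cwBN, cwGN, length_wordsB, length_wordsG]
    omega

/-- **block (C4) of S2290**: a presentation of `SL_{m+4}(F)` from any presentation of `A_{m+4}`,
with `3` more generators and at most `39` more relators -/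
theorem sln_presentation_of_alt {F : Type u} [Field F] [Fintype F] (m k : ℕ)
    (relsA : Finset (FreeGroup (Fin k)))
    (hA : Nonempty (PresentedGroup (↑relsA : Set (FreeGroup (Fin k))) ≃*
      alternatingGroup (Fin (m + 4)))) :
    ∃ rels : Finset (FreeGroup (Fin (3 + k))), rels.card ≤ relsA.card + 39 ∧
      Nonempty (PresentedGroup (↑rels : Set (FreeGroup (Fin (3 + k)))) ≃*
        Matrix.SpecialLinearGroup (Fin (m + 4)) F) :=
  sln_presentation_of_alt' m k
    (fun α _ _ => Cfsg.Agent.Helper9.AltTwoGen.alt_two_generated α) relsA hA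

end Cfsg.Agent.Helper1.SLNP
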