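import Mathlib
import Cfsg.Agent.Helper1.SLNP.Defs
import Cfsg.Agent.Helper9.Sp4P.P_SL2F
import Cfsg.Agent.Helper9.Sp4P.P_CW
import Cfsg.Agent.Helper1.SL3P.P_GEN

/-!
# S2290 block (C4) piece (GFL) -- see `tools/helper1_slnp/README.md` and board WANTED of helper1.
(piece by helper29)
-/

set_option autoImplicit false

namespace Cfsg.Agent.Helper1.SLNP

open Matrix Cfsg.Agent.Helper96.StemSLTwo Cfsg.Agent.Helper96.StPres Cfsg.Agent.Helper9.Sp4P
  Cfsg.Agent.Helper1.SL3P Cfsg.Agent.Helper96.StN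

universe u v

variable {K : Type u} [Field K] {D : Type v} [Group D] {m : ℕ}

theorem glue_fl {a : SL2 K →* D} {ρ : Alt m →* D} {z : Kˣ} {s1 s2 : Alt m}
    (hgen : Subgroup.closure {uMat K 1, dMat (z : K) z.ne_zero, WU (1 : K)} = ⊤)
    (hv : flip (uMat K 1) = lMat K 1 ∧ flip (dMat (z : K) z.ne_zero) = (dMat (z : K) z.ne_zero)⁻¹ ∧
      flip (WU (1 : K)) = (WU (1 : K))⁻¹)
    (hG : GlueGen a ρ z s1 s2) :
    ∀ g : SL2 K, ρ (sg m) * a g * (ρ (sg m))⁻¹ = a (flip g) := by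
  have key : ((MulAut.conj (ρ (sg m))).toMonoidHom.comp a) = a.comp flip := by
    apply MonoidHom.eq_of_eqOn_dense hgen
    intro x hx
    rcases hx with rfl | rfl | rfl
    · show ρ (sg m) * a (uMat K 1) * (ρ (sg m))⁻¹ = a (flip (uMat K 1))
      rw [hv.1]
      exact hG.fu
    · show ρ (sg m) * a (dMat (z : K) z.ne_zero) * (ρ (sg m))⁻¹ = a (flip (dMat (z : K) z.ne_zero))
      rw [hv.2.1, map_inv]
      exact hG.fh
    · show ρ (sg m) * a (WU (1 : K)) * (ρ (sg m))⁻¹ = a (flip (WU (1 : K)))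
      rw [hv.2.2, map_inv]
      exact hG.fw
  intro g
  exact DFunLike.congr_fun key g

end Cfsg.Agent.Helper1.SLNP
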