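import Mathlib
import Cfsg.Agent.Helper1.SLNP.Defs

/-!
# S2290 block (C4) piece (MODTV) -- see `tools/helper1_slnp/README.md` and board WANTED of helper1.
(filled by helper15)
-/

set_option autoImplicit false

namespace Cfsg.Agent.Helper1.SLNP

open Matrix Cfsg.Agent.Helper96.StemSLTwo Cfsg.Agent.Helper96.StPres Cfsg.Agent.Helper9.Sp4P
  Cfsg.Agent.Helper1.SL3P Cfsg.Agent.Helper96.StN

universe u v

variable (F : Type u) [Field F] (m : ℕ)

theorem model_tv
    (hE : ∀ g : SL2 F, (eN F m g).1 = eNMat F m g.1)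
    (hcj : ∀ (π : Alt m) (S : SLN m F) (i j : Fin (m + 4)),
      (rhoM F m π * S * (rhoM F m π)⁻¹).1 i j = S.1 ((π⁻¹).1 i) ((π⁻¹).1 j))
    (π : Alt m) (i j : Fin (m + 4)) (hij : i ≠ j) (h0 : π.1 (p0 m) = i) (h1 : π.1 (p1 m) = j)
    (t : F) :
    rhoM F m π * eN F m (uMat F t) * (rhoM F m π)⁻¹ =
      Matrix.SpecialLinearGroup.transvection hij t := by
  apply Subtype.ext
  ext a b
  rw [hcj, hE, Matrix.SpecialLinearGroup.transvection_coe, Matrix.add_apply, Matrix.one_apply,
    Matrix.single_apply]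
  have e0 : ∀ x : Fin (m + 4), (π⁻¹).1 x = p0 m ↔ x = i := by
    intro x
    rw [← h0]
    exact Equiv.Perm.inv_eq_iff_eq
  have e1 : ∀ x : Fin (m + 4), (π⁻¹).1 x = p1 m ↔ x = j := by
    intro x
    rw [← h1]
    exact Equiv.Perm.inv_eq_iff_eq
  have e2 : (π⁻¹).1 a = (π⁻¹).1 b ↔ a = b := (π⁻¹).1.injective.eq_iff
  simp only [eNMat, Matrix.of_apply, e0, e1, e2, uMat_coe, Matrix.cons_val', Matrix.cons_val_zero,
    Matrix.cons_val_one, Matrix.of_apply, Matrix.cons_val_fin_one]
  by_cases ha : a = i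
  · subst ha
    by_cases hb : b = a
    · subst hb
      simp [hij, hij.symm]
    · by_cases hb' : b = j
      · subst hb'
        simp [hij, hij.symm]
      · simp [hb, hb', Ne.symm hb, Ne.symm hb', hij]
  · by_cases ha' : a = j
    · subst ha'
      by_cases hb : b = i
      · subst hb
        simp [hij, hij.symm]
      · by_cases hb' : b = a
        · subst hb'
          simp [hij, hij.symm]
        · simp [hb, hb', Ne.symm hb, Ne.symm hb', hij, hij.symm, ha, Ne.symm ha]
    · simp [ha, ha', Ne.symm ha, Ne.symm ha']
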